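import Groth.Agent.QIsoLib.Units
import Groth.Agent.DiagHopfLib.FieldDesc
import Mathlib.RingTheory.Spectrum.Prime.Chevalley
import Mathlib.RingTheory.Etale.Pi
import Mathlib.RingTheory.OrzechProperty

set_option autoImplicit false

/-!
Split groups of multiplicative type are split étale locally.
-/

noncomputable section

universe u

open scoped TensorProduct
open Groth.Agent.TorusField Groth.Agent.DiagHopf

namespace Groth.Agent.QIso

variable {R : Type u} [CommRing R] {A : Type u} [CommRing A] [HopfAlgebra R A]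
  {S : Type u} [CommRing S] [Algebra R S] [Module.FaithfullyFlat R S] {M : Type u} [AddCommGroup M]
  [AddGroup.FG M] {L : Type u} [Field L] [Algebra R L]

/-- A group-like element at the point lifts to an étale neighbourhood. -/
theorem exists_lift_step (E : Split R A M S) (N : Nbhd R L) {xL : L ⊗[R] A} (hxL : IsGL R A L xL) :
    ∃ (N' : Nbhd R L) (_ : N.Hom N') (x : N'.T ⊗[R] A), IsGL R A N'.T x ∧ push N'.χ x = xL := by
  classical
  obtain ⟨n, hn, H⟩ := exists_level_lift E hxL
  haveI := isHopfIdeal_torsion E n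
  set H' := (nsmulAddMonoidHom n : M →+ M).range
  obtain ⟨E', -⟩ := exists_split_torsion E n (SGA3b.torsionIdeal R A n) rfl
  haveI : Finite (M ⧸ H') := by
    refine AddCommGroup.finite_of_fg_isAddTorsion _ fun q => ?_
    obtain ⟨m, rfl⟩ := QuotientAddGroup.mk_surjective q
    exact isOfFinAddOrder_iff_nsmul_eq_zero.2 ⟨n, hn, by
      rw [← QuotientAddGroup.mk_nsmul, QuotientAddGroup.eq_zero_iff]; exact ⟨m, rfl⟩⟩
  haveI : Module.Free S (S ⊗[R] (A ⧸ SGA3b.torsionIdeal R A n)) := Module.Free.of_basis E'.e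
  haveI : Module.Finite S (S ⊗[R] (A ⧸ SGA3b.torsionIdeal R A n)) := Module.Finite.of_basis E'.e
  haveI : Module.Finite R (A ⧸ SGA3b.torsionIdeal R A n) :=
    Module.Finite.of_finite_tensorProduct_of_faithfullyFlat S
  haveI : Module.Projective R (A ⧸ SGA3b.torsionIdeal R A n) :=
    ProjLib.projective_of_faithfullyFlat (R := R) (S := S) (M := A ⧸ SGA3b.torsionIdeal R A n)
  haveI := isCocomm_of_split E'
  haveI := etale_dual E'
  obtain ⟨y₀, hy₀, hy₀'⟩ := exists_universal_gl (R := R) (B := A ⧸ SGA3b.torsionIdeal R A n)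
  let D₀ := WithConv ((A ⧸ SGA3b.torsionIdeal R A n) →ₗ[R] R)
  have hyL := isGL_quotExt (SGA3b.torsionIdeal R A n) hxL
  haveI : Algebra.Etale R (N.T ⊗[R] D₀) := Algebra.Etale.comp R N.T _
  let N₁ : Nbhd R L :=
    { T := N.T ⊗[R] D₀
      χ := Algebra.TensorProduct.lift N.χ (evalHom hyL) fun _ _ => Commute.all _ _ }
  let f₁ : N.Hom N₁ := ⟨Algebra.TensorProduct.includeLeft, AlgHom.ext fun x => by simp [N₁]⟩
  let jD : D₀ →ₐ[R] N₁.T := Algebra.TensorProduct.includeRight
  obtain ⟨x, hx, hρx⟩ := H N₁.Loc N₁.ρ N₁.ker_ρ (push (N₁.toLoc.comp jD) y₀) (hy₀.push _) (by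
    have e : N₁.χ.comp jD = evalHom hyL := AlgHom.ext fun x => by simp [N₁, jD]
    have hid : ∀ z : L ⊗[R] (A ⧸ SGA3b.torsionIdeal R A n), push (AlgHom.id R L) z = z := fun z => by simp [push]
    rw [hid, ← push_comp', ← AlgHom.comp_assoc, N₁.ρ_toLoc, e, hy₀'])
  obtain ⟨N', f, x', hx', hρ'⟩ := N₁.exists_spread_gl hx
  exact ⟨N', f.comp f₁, x', hx', hρ'.trans hρx⟩

omit [Module.FaithfullyFlat R S] [AddGroup.FG M] in
theorem push_hom {N N' : Nbhd R L} (f : N.Hom N') (x : N.T ⊗[R] A) : push N'.χ (push f.ι x) = push N.χ x := by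
  rw [← push_comp', f.comp_χ]

theorem exists_lift_list (E : Split R A M S) (N : Nbhd R L) {r : ℕ} (z : Fin r → L ⊗[R] A)
    (hz : ∀ i, IsGL R A L (z i)) :
    ∃ (N' : Nbhd R L) (_ : N.Hom N') (x : Fin r → N'.T ⊗[R] A), ∀ i, IsGL R A N'.T (x i) ∧ push N'.χ (x i) = z i := by
  induction r with
  | zero => exact ⟨N, Nbhd.Hom.id N, Fin.elim0, fun i => i.elim0⟩
  | succ r ih =>
    obtain ⟨N₁, f₁, x, hx⟩ := ih (fun i => z i.succ) (fun i => hz i.succ)
    obtain ⟨N₂, f₂, x₀, hx₀, hx₀'⟩ := exists_lift_step E N₁ (hz 0)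
    refine ⟨N₂, f₂.comp f₁, Fin.cons x₀ fun i => push f₂.ι (x i), fun i => ?_⟩
    cases i using Fin.cases with
    | zero => simp [hx₀, hx₀']
    | succ i =>
      simp only [Fin.cons_succ]
      exact ⟨(hx i).1.push _, by rw [push_hom, (hx i).2]⟩

/-- The group-like elements of the point extend to a homomorphism on a neighbourhood. -/
theorem exists_hom (E : Split R A M S) (N : Nbhd R L) (EL : Split R A M L) :
    ∃ (N' : Nbhd R L) (_ : N.Hom N') (x : M → N'.T ⊗[R] A), x 0 = 1 ∧ (∀ a b, x (a + b) = x a * x b) ∧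
      ∀ a, IsGL R A N'.T (x a) ∧ push N'.χ (x a) = EL.e a := by
  classical
  haveI : Module.Finite ℤ M := Module.Finite.iff_addGroup_fg.2 inferInstance
  obtain ⟨r, π, hπ⟩ := Module.Finite.exists_fin' ℤ M
  obtain ⟨N₁, f₁, u, hu⟩ := exists_lift_list E N (fun i => EL.e (π (Pi.single i 1))) fun i => EL.gl _
  obtain ⟨G, hG⟩ : (LinearMap.ker π).FG := IsNoetherian.noetherian _
  let ℓ : (Fin r → ℤ) →ₗ[ℤ] Additive (glUnits R A N₁.T) :=
    (Pi.basisFun ℤ (Fin r)).constr ℤ fun i => Additive.ofMul (toGlUnits (hu i).1)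
  let X : (Fin r → ℤ) → N₁.T ⊗[R] A := fun v => ((Additive.toMul (ℓ v) : glUnits R A N₁.T) : (N₁.T ⊗[R] A)ˣ)
  have hX0 : X 0 = 1 := by simp [X]
  have hXadd : ∀ v w, X (v + w) = X v * X w := fun v w => by simp [X]
  have hXgl : ∀ v, IsGL R A N₁.T (X v) := fun v => (Additive.toMul (ℓ v)).2
  have hXi : ∀ i, X (Pi.single i 1) = u i := fun i => by
    have : ℓ (Pi.single i 1) = Additive.ofMul (toGlUnits (hu i).1) := by
      have h := (Pi.basisFun ℤ (Fin r)).constr_basis ℤ (fun i => Additive.ofMul (toGlUnits (hu i).1)) i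
      rw [Pi.basisFun_apply] at h
      exact h
    simp [X, this, coe_toGlUnits]
  have hXpt : ∀ v, push N₁.χ (X v) = EL.e (π v) := by
    let P : AddSubgroup (Fin r → ℤ) :=
      { carrier := {v | push N₁.χ (X v) = EL.e (π v)}
        add_mem' := fun {a b} (ha : push N₁.χ (X a) = EL.e (π a)) (hb : push N₁.χ (X b) = EL.e (π b)) =>
          show push N₁.χ (X (a + b)) = EL.e (π (a + b)) by rw [hXadd, map_mul, ha, hb, map_add, EL.e_add]
        zero_mem' := show push N₁.χ (X 0) = EL.e (π 0) by rw [hX0, map_one, map_zero, EL.e_zero]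
        neg_mem' := fun {a} (ha : push N₁.χ (X a) = EL.e (π a)) =>
          show push N₁.χ (X (-a)) = EL.e (π (-a)) by
            have h1 : push N₁.χ (X a) * push N₁.χ (X (-a)) = 1 := by
              rw [← map_mul, ← hXadd, add_neg_cancel, hX0, map_one]
            have h2 : EL.e (π a) * EL.e (π (-a)) = 1 := by
              rw [← EL.e_add, ← map_add, add_neg_cancel, map_zero, EL.e_zero]
            exact (isUnit_of_isGL (EL.gl (π a))).mul_left_cancel (by rw [h2, ← ha, h1]) }
    intro v
    show v ∈ P.toIntSubmodule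
    have htop : (⊤ : Submodule ℤ (Fin r → ℤ)) ≤ P.toIntSubmodule := by
      rw [← (Pi.basisFun ℤ (Fin r)).span_eq, Submodule.span_le]
      rintro _ ⟨i, rfl⟩
      show push N₁.χ (X _) = EL.e (π _)
      rw [Pi.basisFun_apply, hXi, (hu i).2]
    exact htop Submodule.mem_top
  have hker : ∀ s : Finset (Fin r → ℤ), (↑s : Set (Fin r → ℤ)) ⊆ LinearMap.ker π →
      ∃ (N₂ : Nbhd R L) (f : N₁.Hom N₂), ∀ v ∈ s, push f.ι (X v) = 1 := by
    intro s
    induction s using Finset.induction with
    | empty => exact fun _ => ⟨N₁, Nbhd.Hom.id N₁, fun v hv => absurd hv (Finset.notMem_empty v)⟩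
    | insert v s hv ih =>
      intro hsub
      rw [Finset.coe_insert, Set.insert_subset_iff] at hsub
      obtain ⟨N₂, f, hf⟩ := ih hsub.2
      have h1 : push N₂.toLoc (push f.ι (X v)) = 1 := by
        refine gl_eq_one E N₂.ρ N₂.ker_ρ (((hXgl v).push _).push _) ?_
        rw [← push_comp', N₂.ρ_toLoc, push_hom, hXpt, LinearMap.mem_ker.1 hsub.1, EL.e_zero]
      obtain ⟨N₃, g, hg⟩ := N₂.exists_eq (V := A) (z := push f.ι (X v)) (z' := 1) (by
        show push N₂.toLoc _ = push N₂.toLoc 1
        rw [h1, map_one])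
      refine ⟨N₃, g.comp f, fun w hw => ?_⟩
      show push (g.ι.comp f.ι) (X w) = 1
      rw [push_comp']
      rcases Finset.mem_insert.1 hw with rfl | hw
      · exact hg.trans (map_one _)
      · rw [hf w hw, map_one]
  obtain ⟨N₂, f, hf⟩ := hker G (hG ▸ Submodule.subset_span)
  have hwd : ∀ v ∈ LinearMap.ker π, push f.ι (X v) = 1 := by
    intro v hv
    rw [← hG] at hv
    induction hv using Submodule.span_induction with
    | mem w hw => exact hf w hw
    | zero => rw [hX0, map_one]
    | add a b _ _ ha hb => rw [hXadd, map_mul, ha, hb, one_mul]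
    | smul c a _ ha =>
      let Φ : (Fin r → ℤ) →+ Additive (N₂.T ⊗[R] A)ˣ :=
        (MonoidHom.toAdditive ((Units.map (push (A := A) f.ι : N₁.T ⊗[R] A →* N₂.T ⊗[R] A)).comp
          (glUnits R A N₁.T).subtype)).comp ℓ.toAddMonoidHom
      have hΦ : ∀ w, (Additive.toMul (Φ w) : (N₂.T ⊗[R] A)ˣ).1 = push f.ι (X w) := fun w => rfl
      have h0 : Φ a = 0 := Additive.toMul.injective (Units.ext ((hΦ a).trans (by simpa using ha)))
      rw [← hΦ, map_zsmul, h0, smul_zero]
      rfl
  choose sec hsec using hπ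
  have key : ∀ v, push f.ι (X v) = push f.ι (X (sec (π v))) := fun v => by
    have := hwd (v - sec (π v)) (by rw [LinearMap.mem_ker, map_sub, hsec, sub_self])
    calc push f.ι (X v) = push f.ι (X (v - sec (π v) + sec (π v))) := by rw [sub_add_cancel]
      _ = _ := by rw [hXadd, map_mul, this, one_mul]
  refine ⟨N₂, f.comp f₁, fun m => push f.ι (X (sec m)), ?_, fun a b => ?_, fun a => ⟨(hXgl _).push _, ?_⟩⟩
  · exact hwd _ (by rw [LinearMap.mem_ker, hsec])
  · show push f.ι (X (sec (a + b))) = push f.ι (X (sec a)) * push f.ι (X (sec b))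
    rw [← map_mul, ← hXadd, key (sec a + sec b), map_add, hsec, hsec]
  · rw [push_hom, hXpt, hsec]

omit [AddGroup.FG M] in
/-- Over the local ring the lifted elements span. -/
theorem span_loc (E : Split R A M S) (EL : Split R A M L) {T : Type u} [CommRing T] [Algebra R T] [IsLocalRing T]
    (ρ : T →ₐ[R] L) (hρ : RingHom.ker ρ = IsLocalRing.maximalIdeal T) (x : M → T ⊗[R] A)
    (hx : ∀ a, IsGL R A T (x a) ∧ push ρ (x a) = EL.e a) : Submodule.span T (Set.range x) = ⊤ := by
  classical
  haveI := flat_of_split E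
  let U := T ⊗[R] S
  let iT : T →ₐ[R] U := Algebra.TensorProduct.includeLeft
  let iS : S →ₐ[R] U := Algebra.TensorProduct.includeRight
  obtain ⟨EU, hEU⟩ := exists_split_push E iS
  let jS : S →ₐ[R] S ⊗[R] L := Algebra.TensorProduct.includeLeft
  let jL : L →ₐ[R] S ⊗[R] L := Algebra.TensorProduct.includeRight
  obtain ⟨m₀, hm₀⟩ : ∃ m : Ideal (S ⊗[R] L), m.IsMaximal := by
    haveI : Nontrivial (S ⊗[R] L) := Module.FaithfullyFlat.lTensor_nontrivial (R := R) (M := S) (N := L)
    exact Ideal.exists_maximal _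
  letI := Ideal.Quotient.field m₀
  let π₀ := Ideal.Quotient.mkₐ R m₀
  let l₀ : U →ₐ[R] (S ⊗[R] L) ⧸ m₀ :=
    π₀.comp (Algebra.TensorProduct.lift (jL.comp ρ) jS fun _ _ => Commute.all _ _)
  have hl₀T : l₀.comp iT = (π₀.comp jL).comp ρ := AlgHom.ext fun x => by
    simp [l₀, iT, U, Algebra.TensorProduct.includeLeft_apply, Algebra.TensorProduct.lift_tmul]
  have hl₀S : l₀.comp iS = π₀.comp jS := AlgHom.ext fun x => by
    simp [l₀, iS, U, Algebra.TensorProduct.includeRight_apply, Algebra.TensorProduct.lift_tmul]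
  obtain ⟨K₀, hK₀⟩ := exists_split_push EL (π₀.comp jL)
  obtain ⟨EU₀, hEU₀⟩ := exists_split_push EU l₀
  let c := fun g n => EU.e.repr (push iT (x g)) n
  have hcover : ∀ (n : M) (P : Ideal U), P.IsPrime → ∃ g, c g n ∉ P := by
    intro n P _
    let P₀ := RingHom.ker l₀
    haveI : P₀.IsPrime := RingHom.ker_isPrime _
    have hP₀ : P₀.comap (algebraMap T U) = IsLocalRing.maximalIdeal T := by
      rw [← hρ]
      ext t
      show l₀ (iT t) = 0 ↔ ρ t = 0
      rw [← AlgHom.comp_apply, hl₀T, AlgHom.comp_apply, map_eq_zero]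
    set p := P.comap (algebraMap T U)
    haveI : P₀.LiesOver (IsLocalRing.maximalIdeal T) := ⟨hP₀.symm⟩
    obtain ⟨Q, hQle, hQprime, hQover⟩ := Ideal.exists_ideal_le_liesOver_of_le (R := T) (S := U) P₀
      (IsLocalRing.le_maximalIdeal (Ideal.IsPrime.ne_top' (I := p)))
    haveI := hQprime
    let lP := IsScalarTower.toAlgHom R U P.ResidueField
    let lQ := IsScalarTower.toAlgHom R U Q.ResidueField
    let aP : p.ResidueField →ₐ[R] P.ResidueField := Ideal.ResidueField.mapₐ p P (IsScalarTower.toAlgHom R T U) rfl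
    let aQ : p.ResidueField →ₐ[R] Q.ResidueField :=
      Ideal.ResidueField.mapₐ p Q (IsScalarTower.toAlgHom R T U) hQover.over
    obtain ⟨K, _, _, j₁, j₂, hj⟩ := exists_join aP aQ
    have hT : (j₁.comp lP).comp iT = (j₂.comp lQ).comp iT := AlgHom.ext fun t => by
      have := DFunLike.congr_fun hj (algebraMap T p.ResidueField t)
      simp only [AlgHom.comp_apply] at this ⊢
      simp only [aP, aQ, lP, lQ] at this ⊢
      rw [Ideal.ResidueField.mapₐ_apply, Ideal.ResidueField.mapₐ_apply, Ideal.ResidueField.map_algebraMap,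
        Ideal.ResidueField.map_algebraMap] at this
      exact this
    obtain ⟨EK, hEK⟩ := exists_split_push E ((j₂.comp lQ).comp iS)
    obtain ⟨h, hh⟩ := EK.exists_eq ((E.gl n).push ((j₁.comp lP).comp iS))
    obtain ⟨g, hg⟩ := K₀.exists_eq ((EU.gl h).push l₀)
    have hg' : push l₀ (push iT (x g)) = push l₀ (EU.e h) := by
      rw [hg, hK₀, ← push_comp', hl₀T, push_comp', (hx g).2]
    have h1 : l₀ (c g h) = 1 := by
      rw [← repr_push EU EU₀ l₀ hEU₀, hg', ← hEU₀, Module.Basis.repr_self, Finsupp.single_eq_same]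
    obtain ⟨EQ, hEQ⟩ := exists_split_push EU lQ
    obtain ⟨h', hh'⟩ := EQ.exists_eq (((hx g).1.push iT).push lQ)
    have hhh : h' = h := by
      by_contra hne
      have h2 : lQ (c g h) = 0 := by
        rw [← repr_push EU EQ lQ hEQ, hh', Module.Basis.repr_self, Finsupp.single_eq_of_ne (Ne.symm hne)]
      have hmem : c g h ∈ RingHom.ker lQ := h2
      rw [exists_point Q] at hmem
      have h3 : l₀ (c g h) = 0 := hQle hmem
      rw [h1] at h3
      exact one_ne_zero h3
    obtain ⟨EP, hEP⟩ := exists_split_push EU lP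
    obtain ⟨EK₁, hEK₁⟩ := exists_split_push EP j₁
    refine ⟨g, fun hmem => ?_⟩
    have h4 : push j₁ (push lP (push iT (x g))) = EK₁.e n := by
      rw [← push_comp', ← push_comp', hT, push_comp', push_comp', hh', hhh, hEQ, hEU, ← push_comp', ← push_comp',
        ← hEK, ← hh, hEK₁, hEP, hEU, ← push_comp', ← push_comp']
    have h5 : lP (c g n) = 0 := by
      have : c g n ∈ RingHom.ker lP := by rw [exists_point P]; exact hmem
      exact this
    have h6 := repr_push EP EK₁ j₁ hEK₁ (push lP (push iT (x g))) n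
    rw [h4, Module.Basis.repr_self, Finsupp.single_eq_same, repr_push EU EP lP hEP] at h6
    rw [show lP (EU.e.repr (push iT (x g)) n) = 0 from h5, map_zero] at h6
    exact one_ne_zero h6
  have hspanU : Submodule.span U (Set.range fun g => push iT (x g)) = ⊤ := by
    rw [eq_top_iff, ← EU.e.span_eq, Submodule.span_le]
    rintro _ ⟨n, rfl⟩
    have htop : Ideal.span (Set.range fun g => c g n) = ⊤ := by
      by_contra hne
      obtain ⟨P, hP, hle⟩ := Ideal.exists_le_maximal _ hne
      obtain ⟨g, hg⟩ := hcover n P hP.isPrime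
      exact hg (hle (Ideal.subset_span ⟨g, rfl⟩))
    obtain ⟨a, ha⟩ := Finsupp.mem_span_range_iff_exists_finsupp.1 (htop ▸ Submodule.mem_top : (1 : U) ∈ _)
    have hcg : ∀ g, c g n • push iT (x g) = c g n • EU.e n := fun g => by
      refine EU.e.ext_elem fun j => ?_
      rw [map_smul, map_smul, Finsupp.smul_apply, Finsupp.smul_apply, Module.Basis.repr_self, smul_eq_mul,
        smul_eq_mul, Finsupp.single_apply, EU.repr_idem ((hx g).1.push iT) n j]
      split_ifs with h
      · rw [mul_one]
      · rw [mul_zero]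
    rw [SetLike.mem_coe, ← one_smul U (EU.e n), ← ha, Finsupp.sum, Finset.sum_smul]
    refine sum_mem fun g _ => ?_
    rw [smul_assoc, ← hcg]
    exact Submodule.smul_mem _ _ (Submodule.smul_mem _ _ (Submodule.subset_span ⟨g, rfl⟩))
  let G : (M →₀ T) →ₗ[R] T ⊗[R] A := (Finsupp.linearCombination T x).restrictScalars R
  have hG : Function.Surjective G := by
    rw [← Module.FaithfullyFlat.lTensor_surjective_iff_surjective R S]
    let σ : U ⊗[R] A →ₐ[R] S ⊗[R] (T ⊗[R] A) :=
      (Algebra.TensorProduct.assoc R R R S T A).toAlgHom.comp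
        (Algebra.TensorProduct.map (Algebra.TensorProduct.comm R T S).toAlgHom (AlgHom.id R A))
    have hσ : Function.Surjective σ :=
      (Algebra.TensorProduct.assoc R R R S T A).surjective.comp
        (Algebra.TensorProduct.congr (Algebra.TensorProduct.comm R T S) (AlgEquiv.refl : A ≃ₐ[R] A)).surjective
    intro w
    obtain ⟨z, rfl⟩ := hσ w
    have hz : z ∈ Submodule.span U (Set.range fun g => push iT (x g)) := hspanU ▸ Submodule.mem_top
    show σ z ∈ LinearMap.range (G.lTensor S)
    suffices ∀ v : U, σ (v • z) ∈ LinearMap.range (G.lTensor S) by simpa using this 1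
    induction hz using Submodule.span_induction with
    | mem w hw =>
      obtain ⟨g, rfl⟩ := hw
      intro v
      induction v using TensorProduct.induction_on with
      | zero => rw [zero_smul, map_zero]; exact zero_mem _
      | add a b ha hb => rw [add_smul, map_add]; exact add_mem ha hb
      | tmul t s =>
        refine ⟨s ⊗ₜ Finsupp.single g t, ?_⟩
        show _ = σ ((t ⊗ₜ[R] s : U) • push iT (x g))
        rw [LinearMap.lTensor_tmul,
          show G (Finsupp.single g t) = t • x g from Finsupp.linearCombination_single T t g]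
        generalize x g = y
        induction y using TensorProduct.induction_on with
        | zero => simp
        | add a b ha hb => simp only [smul_add, map_add, TensorProduct.tmul_add, ha, hb]
        | tmul t' a =>
          rw [show push iT (t' ⊗ₜ[R] a) = iT t' ⊗ₜ a from rfl, TensorProduct.smul_tmul', TensorProduct.smul_tmul',
            smul_eq_mul, smul_eq_mul,
            show (t ⊗ₜ[R] s : U) * iT t' = (t * t') ⊗ₜ s by simp [iT, U, Algebra.TensorProduct.includeLeft_apply]]
          rfl
    | zero => intro v; rw [smul_zero, map_zero]; exact zero_mem _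
    | add a b _ _ ha hb => intro v; rw [smul_add, map_add]; exact add_mem (ha v) (hb v)
    | smul c a _ ha => intro v; rw [smul_smul]; exact ha _
  rw [← Finsupp.range_linearCombination, LinearMap.range_eq_top]
  exact hG

/-- A splitting exists on an étale neighbourhood. -/
theorem exists_split_nbhd [Algebra.FiniteType R A] (E : Split R A M S) (N : Nbhd R L) (EL : Split R A M L) :
    ∃ (N' : Nbhd R L) (_ : N.Hom N'), Nonempty (Split R A M N'.T) := by
  classical
  obtain ⟨N₁, f₁, x, hx0, hxadd, hx⟩ := exists_hom E N EL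
  have hloc := span_loc E EL N₁.ρ N₁.ker_ρ (fun a => push N₁.toLoc (x a)) fun a => ⟨(hx a).1.push _, by
    rw [← push_comp', N₁.ρ_toLoc, (hx a).2]⟩
  obtain ⟨G, hG⟩ := (Algebra.FiniteType.out : (⊤ : Subalgebra R A).FG)
  have hstep : ∀ s : Finset A, ∃ (N₂ : Nbhd R L) (f : N₁.Hom N₂), ∀ a ∈ s,
      (1 : N₂.T) ⊗ₜ[R] a ∈ Submodule.span N₂.T (Set.range fun m => push f.ι (x m)) := by
    intro s
    induction s using Finset.induction with
    | empty => exact ⟨N₁, Nbhd.Hom.id N₁, fun a ha => absurd ha (Finset.notMem_empty a)⟩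
    | insert a s ha ih =>
      obtain ⟨N₂, f, hf⟩ := ih
      obtain ⟨θ, hθ, hθρ⟩ := f.exists_loc
      have h1 : (1 : N₂.Loc) ⊗ₜ[R] a ∈ Submodule.span N₂.Loc (Set.range fun m => push N₂.toLoc (push f.ι (x m))) := by
        have h0 : ∀ w ∈ Submodule.span N₁.Loc (Set.range fun m => push N₁.toLoc (x m)),
            push θ w ∈ Submodule.span N₂.Loc (Set.range fun m => push N₂.toLoc (push f.ι (x m))) := by
          intro w hw
          induction hw using Submodule.span_induction with
          | mem w hw =>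
            obtain ⟨m, rfl⟩ := hw
            exact Submodule.subset_span ⟨m, by
              show push N₂.toLoc (push f.ι (x m)) = push θ (push N₁.toLoc (x m))
              rw [← push_comp', ← push_comp', hθ]⟩
          | zero => rw [map_zero]; exact zero_mem _
          | add p q _ _ hp hq => rw [map_add]; exact add_mem hp hq
          | smul c p _ hp => rw [push_smul]; exact Submodule.smul_mem _ _ hp
        have := h0 ((1 : N₁.Loc) ⊗ₜ[R] a) (hloc ▸ Submodule.mem_top)
        simpa [push] using this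
      obtain ⟨c, hc⟩ := Finsupp.mem_span_range_iff_exists_finsupp.1 h1
      obtain ⟨b, hb⟩ := IsLocalization.exist_integer_multiples_of_finset N₂.q.primeCompl
        (c.support.image fun m => c m)
      have hb' : ∀ m, ∃ t : N₂.T, N₂.toLoc t = N₂.toLoc (b : N₂.T) * c m := fun m => by
        by_cases hm : m ∈ c.support
        · obtain ⟨t, ht⟩ := hb (c m) (Finset.mem_image.2 ⟨m, hm, rfl⟩)
          exact ⟨t, ht.trans (Algebra.smul_def _ _)⟩
        · exact ⟨0, by rw [map_zero, Finsupp.notMem_support_iff.1 hm, mul_zero]⟩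
      choose t ht using hb'
      obtain ⟨N₃, g, hg⟩ := N₂.exists_eq (V := A) (z := (b : N₂.T) • ((1 : N₂.T) ⊗ₜ[R] a))
        (z' := ∑ m ∈ c.support, t m • push f.ι (x m)) (by
        show push N₂.toLoc _ = push N₂.toLoc _
        rw [push_smul, map_sum]
        simp only [push_smul, ht, mul_smul]
        rw [← Finset.smul_sum]
        congr 1
        rw [show push N₂.toLoc ((1 : N₂.T) ⊗ₜ[R] a) = (1 : N₂.Loc) ⊗ₜ a by simp [push]]
        exact hc.symm)
      obtain ⟨N₄, g', hu⟩ := N₃.exists_away (g := g.ι (b : N₂.T)) (fun h => b.2 (by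
        show N₂.χ b = 0
        rw [← g.comp_χ]
        exact h))
      refine ⟨N₄, (g'.comp g).comp f, fun a' ha' => ?_⟩
      have hmono : ∀ w ∈ Submodule.span N₂.T (Set.range fun m => push f.ι (x m)),
          push (g'.comp g).ι w ∈ Submodule.span N₄.T (Set.range fun m => push ((g'.comp g).comp f).ι (x m)) := by
        intro w hw
        induction hw using Submodule.span_induction with
        | mem w hw =>
          obtain ⟨m, rfl⟩ := hw
          exact Submodule.subset_span ⟨m, push_comp' _ _ _⟩
        | zero => rw [map_zero]; exact zero_mem _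
        | add p q _ _ hp hq => rw [map_add]; exact add_mem hp hq
        | smul c p _ hp => rw [push_smul]; exact Submodule.smul_mem _ _ hp
      rcases Finset.mem_insert.1 ha' with rfl | ha'
      · have hmem : (∑ m ∈ c.support, t m • push f.ι (x m)) ∈
            Submodule.span N₂.T (Set.range fun m => push f.ι (x m)) :=
          sum_mem fun m _ => Submodule.smul_mem _ (t m) (Submodule.subset_span ⟨m, rfl⟩)
        have hsum := hmono _ hmem
        have hg2 : push (g'.comp g).ι ((b : N₂.T) • ((1 : N₂.T) ⊗ₜ[R] a')) =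
            push (g'.comp g).ι (∑ m ∈ c.support, t m • push f.ι (x m)) := by
          show push (g'.ι.comp g.ι) _ = push (g'.ι.comp g.ι) _
          rw [push_comp', push_comp']
          exact congrArg (push g'.ι) hg
        rw [← hg2, push_smul] at hsum
        have hu' : IsUnit ((g'.comp g).ι (b : N₂.T)) := hu
        obtain ⟨u, hu''⟩ := hu'
        have hres := Submodule.smul_mem _ (↑u⁻¹ : N₄.T) hsum
        rw [← hu'', smul_smul, Units.inv_mul, one_smul] at hres
        simpa [push] using hres
      · simpa [push] using hmono _ (hf a' ha')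
  obtain ⟨N₂, f, hf⟩ := hstep G
  let y : M → N₂.T ⊗[R] A := fun m => push f.ι (x m)
  have hy0 : y 0 = 1 := by simp only [y, hx0, map_one]
  have hyadd : ∀ a b, y (a + b) = y a * y b := fun a b => by simp only [y, hxadd, map_mul]
  have hygl : ∀ a, IsGL R A N₂.T (y a) := fun a => (hx a).1.push _
  have hspan : ⊤ ≤ Submodule.span N₂.T (Set.range y) := by
    let P : Submodule N₂.T (N₂.T ⊗[R] A) := Submodule.span N₂.T (Set.range y)
    have hone : (1 : N₂.T ⊗[R] A) ∈ P := Submodule.subset_span ⟨0, hy0⟩
    have hmul : ∀ u v, u ∈ P → v ∈ P → u * v ∈ P := by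
      intro u v hu hv
      have h := Submodule.mul_mem_mul hu hv
      rw [Submodule.span_mul_span] at h
      refine Submodule.span_mono ?_ h
      rintro z ⟨_, ⟨a, rfl⟩, _, ⟨b, rfl⟩, rfl⟩
      exact ⟨a + b, hyadd a b⟩
    let B := P.toSubalgebra hone hmul
    have hA : ∀ a : A, (1 : N₂.T) ⊗ₜ[R] a ∈ B := by
      intro a
      have : a ∈ (B.restrictScalars R).comap (Algebra.TensorProduct.includeRight : A →ₐ[R] N₂.T ⊗[R] A) :=
        Algebra.adjoin_le (fun g hg => hf g hg) (hG ▸ Algebra.mem_top : a ∈ Algebra.adjoin R (G : Set A))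
      exact this
    intro z hz
    clear hz
    induction z using TensorProduct.induction_on with
    | zero => exact zero_mem _
    | add p q hp hq => exact add_mem hp hq
    | tmul t a =>
      rw [show t ⊗ₜ[R] a = t • ((1 : N₂.T) ⊗ₜ[R] a) by rw [TensorProduct.smul_tmul', smul_eq_mul, mul_one]]
      exact P.smul_mem t (hA a)
  haveI := flat_of_split E
  let U := S ⊗[R] N₂.T
  let iT : N₂.T →ₐ[R] U := Algebra.TensorProduct.includeRight
  let iS : S →ₐ[R] U := Algebra.TensorProduct.includeLeft
  obtain ⟨EU, hEU⟩ := exists_split_push E iS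
  have hinj : Function.Injective iT := fun a b hab =>
    Module.FaithfullyFlat.tensorProduct_mk_injective (A := R) (B := S) N₂.T hab
  let c := fun g n => EU.e.repr (push iT (y g)) n
  have hidem : ∀ g n, IsIdempotentElem (c g n) := fun g n => by
    have := EU.repr_idem ((hygl g).push iT) n n
    rwa [if_pos rfl] at this
  have hcol : ∀ g g' n, g ≠ g' → c g n * c g' n = 0 := by
    intro g g' n hne
    refine ((hidem g n).mul (hidem g' n)).eq_zero_of_isNilpotent (nilpotent_iff_mem_prime.2 fun P hP => ?_)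
    let lP := IsScalarTower.toAlgHom R U P.ResidueField
    obtain ⟨EP, hEP⟩ := exists_split_push EU lP
    choose φ hφ using fun m => EP.exists_eq (((hygl m).push iT).push lP)
    have hφadd : ∀ a b, φ (a + b) = φ a + φ b := fun a b => EP.e.injective (by
      rw [EP.e_add, ← hφ, ← hφ, ← hφ, hyadd, map_mul, map_mul])
    let φ' : M →+ M := AddMonoidHom.mk' φ hφadd
    have hsurj : Function.Surjective φ' := by
      intro m
      by_contra hm
      refine EP.e.linearIndependent.notMem_span_image (s := Set.range φ) (fun ⟨a, ha⟩ => hm ⟨a, ha⟩) ?_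
      have h0 : ∀ w ∈ Submodule.span N₂.T (Set.range y),
          push lP (push iT w) ∈ Submodule.span P.ResidueField (EP.e '' Set.range φ) := by
        intro w hw
        induction hw using Submodule.span_induction with
        | mem w hw =>
          obtain ⟨a, rfl⟩ := hw
          exact Submodule.subset_span ⟨φ a, ⟨a, rfl⟩, (hφ a).symm⟩
        | zero => rw [map_zero, map_zero]; exact zero_mem _
        | add p q _ _ hp hq => rw [map_add, map_add]; exact add_mem hp hq
        | smul c p _ hp => rw [push_smul, push_smul]; exact Submodule.smul_mem _ _ hp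
      have htop : ∀ w : P.ResidueField ⊗[R] A, w ∈ Submodule.span P.ResidueField (EP.e '' Set.range φ) := by
        intro w
        induction w using TensorProduct.induction_on with
        | zero => exact zero_mem _
        | add p q hp hq => exact add_mem hp hq
        | tmul t a =>
          rw [show t ⊗ₜ[R] a = t • push lP (push iT ((1 : N₂.T) ⊗ₜ[R] a)) by
            simp [push, TensorProduct.smul_tmul', U, iT, Algebra.TensorProduct.includeRight_apply,
              ← Algebra.TensorProduct.one_def]]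
          exact Submodule.smul_mem _ _ (h0 _ (hspan Submodule.mem_top))
      exact htop _
    haveI : Module.Finite ℤ M := Module.Finite.iff_addGroup_fg.2 inferInstance
    have hφinj : Function.Injective φ' :=
      OrzechProperty.injective_of_surjective_endomorphism φ'.toIntLinearMap hsurj
    have h1 : lP (c g n * c g' n) = 0 := by
      rw [map_mul, ← repr_push EU EP lP hEP, ← repr_push EU EP lP hEP, hφ, hφ, Module.Basis.repr_self,
        Module.Basis.repr_self, Finsupp.single_apply, Finsupp.single_apply]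
      split_ifs with h h' <;> simp_all
      exact hne (hφinj (h.trans h'.symm))
    have : c g n * c g' n ∈ RingHom.ker lP := h1
    rwa [exists_point P] at this
  have hli : LinearIndependent N₂.T y := by
    rw [linearIndependent_iff']
    intro s t hs g hg
    refine hinj ?_
    rw [map_zero]
    have hs' : ∑ m ∈ s, iT (t m) • push iT (y m) = 0 := by
      simp only [← push_smul, ← map_sum, hs, map_zero]
    have hn : ∀ n, iT (t g) * c g n = 0 := by
      intro n
      have := congrArg (fun z => EU.e.repr z n * c g n) hs'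
      simp only [map_sum, map_smul, Finsupp.coe_finsetSum, Finset.sum_apply, Finsupp.smul_apply, smul_eq_mul,
        Finset.sum_mul, map_zero, Finsupp.zero_apply, zero_mul] at this
      rw [Finset.sum_eq_single g (fun j _ hj => by rw [mul_assoc, hcol j g n hj, mul_zero])
        (fun h => absurd hg h), mul_assoc, (hidem g n).eq] at this
      exact this
    calc iT (t g) = iT (t g) * (EU.e.repr (push iT (y g))).sum fun _ c => c := by
          rw [EU.sum_repr_gl ((hygl g).push iT), mul_one]
      _ = 0 := by rw [Finsupp.sum, Finset.mul_sum]; exact Finset.sum_eq_zero fun n _ => hn n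
  exact ⟨N₂, f.comp f₁, ⟨⟨Module.Basis.mk hli hspan, by rw [Module.Basis.mk_apply, hy0],
    fun a b => by rw [Module.Basis.mk_apply, Module.Basis.mk_apply, Module.Basis.mk_apply, hyadd],
    fun a => by rw [Module.Basis.mk_apply]; exact hygl a⟩⟩⟩

omit [AddGroup.FG M] in
/-- At every prime there is an étale neighbourhood over which the group splits. -/
theorem exists_split_at [Algebra.FiniteType R A] (E : Split R A M S) (p : Ideal R) [p.IsPrime] :
    ∃ (T : Type u) (_ : CommRing T) (_ : Algebra R T) (P : Ideal T), Algebra.Etale R T ∧ P.IsPrime ∧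
      P.comap (algebraMap R T) = p ∧ Nonempty (Split R A M T) := by
  classical
  haveI : Nontrivial S := by
    obtain ⟨m, hm⟩ := Ideal.exists_le_maximal p (Ideal.IsPrime.ne_top ‹_›)
    by_contra h
    rw [not_nontrivial_iff_subsingleton] at h
    exact Module.FaithfullyFlat.submodule_ne_top (R := R) (M := S) hm.1 (Subsingleton.elim _ _)
  haveI := fg_of_split' E
  haveI : AddGroup.FG M := AddGroup.fg_iff_addMonoid_fg.2 inferInstance
  let k := p.ResidueField
  let i₁ : S →ₐ[R] k ⊗[R] S := Algebra.TensorProduct.includeRight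
  obtain ⟨Ek, -⟩ := exists_split_push E i₁
  obtain ⟨Ek'⟩ := exists_split_transfer' (R' := k) Ek
  obtain ⟨Ek''⟩ := exists_split_reindex Ek' (AddEquiv.additiveMultiplicative M).symm
  haveI : Nontrivial (k ⊗[R] S) := Module.FaithfullyFlat.rTensor_nontrivial (R := R) (M := S) (N := k)
  haveI : Module.FaithfullyFlat k (k ⊗[R] S) := inferInstance
  have hmult := isMultType_of_split Ek''
  obtain ⟨L, _, _, hfin, hsep, N, _, -, ⟨eL⟩⟩ := isotrivial_of_field
    (Algebra.FiniteType.baseChange (A := A) k) hmult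
  haveI := hfin; haveI := hsep
  letI : Algebra R L := ((algebraMap k L).comp (algebraMap R k)).toAlgebra
  haveI : IsScalarTower R k L := IsScalarTower.of_algebraMap_eq fun _ => rfl
  obtain ⟨EL₀⟩ := exists_split_of_bialgEquiv eL
  obtain ⟨EL₁⟩ := exists_split_transfer EL₀
  obtain ⟨T, _, _, hT, ⟨χ⟩⟩ := exists_etale_point p L
  haveI := hT
  -- make the types agree
  let jS : S →ₐ[R] S ⊗[R] L := Algebra.TensorProduct.includeLeft
  let jL : L →ₐ[R] S ⊗[R] L := Algebra.TensorProduct.includeRight
  obtain ⟨m₀, hm₀⟩ : ∃ m : Ideal (S ⊗[R] L), m.IsMaximal := by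
    haveI : Nontrivial (S ⊗[R] L) := Module.FaithfullyFlat.lTensor_nontrivial (R := R) (M := S) (N := L)
    exact Ideal.exists_maximal _
  letI := Ideal.Quotient.field m₀
  obtain ⟨K₁, -⟩ := exists_split_push EL₁ ((Ideal.Quotient.mkₐ R m₀).comp jL)
  obtain ⟨K₂, -⟩ := exists_split_push E ((Ideal.Quotient.mkₐ R m₀).comp jS)
  obtain ⟨φ, -⟩ := exists_reindex_field K₁ K₂
  obtain ⟨EL⟩ := exists_split_reindex EL₁ φ
  obtain ⟨N', -, hsplit⟩ := exists_split_nbhd E (Nbhd.mk T χ) EL
  refine ⟨N'.T, inferInstance, inferInstance, N'.q, inferInstance, inferInstance, ?_, hsplit⟩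
  ext r
  show N'.χ (algebraMap R N'.T r) = 0 ↔ r ∈ p
  rw [AlgHom.commutes, IsScalarTower.algebraMap_apply R k L, map_eq_zero, Ideal.algebraMap_residueField_eq_zero]

omit [AddGroup.FG M] in
/-- Split groups of multiplicative type split after an étale faithfully flat extension. -/
theorem exists_split_etale [Algebra.FiniteType R A] (E : Split R A M S) :
    ∃ (T : Type u) (_ : CommRing T) (_ : Algebra R T), Algebra.Etale R T ∧ Module.FaithfullyFlat R T ∧
      Nonempty (Split R A M T) := by
  classical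
  choose T iC iA P hEt hP hPc hsplit using fun x : PrimeSpectrum R => exists_split_at E x.asIdeal
  let U : PrimeSpectrum R → Set (PrimeSpectrum R) := fun x =>
    Set.range (PrimeSpectrum.comap (algebraMap R (T x)))
  have hopen : ∀ x, IsOpen (U x) := fun x => by
    haveI := hEt x
    exact (PrimeSpectrum.isOpenMap_comap_of_hasGoingDown_of_finitePresentation (R := R) (S := T x)).isOpen_range
  have hcov : Set.univ ⊆ ⋃ x, U x := fun x _ => Set.mem_iUnion.2 ⟨x, ⟨⟨P x, hP x⟩, PrimeSpectrum.ext (hPc x)⟩⟩
  obtain ⟨s, hs⟩ := isCompact_univ.elim_finite_subcover U hopen hcov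
  let T' : ↥s → Type u := fun x => T x.1
  haveI : ∀ x : ↥s, Algebra.Etale R (T' x) := fun x => hEt x.1
  haveI : Algebra.Etale R (Π x, T' x) := inferInstance
  obtain ⟨E', -⟩ := exists_split_pi fun x : ↥s => (hsplit x.1).some
  refine ⟨Π x, T' x, inferInstance, inferInstance, inferInstance, ?_, ⟨E'⟩⟩
  refine Module.FaithfullyFlat.of_comap_surjective fun x => ?_
  obtain ⟨y, hy⟩ := Set.mem_iUnion₂.1 (hs (Set.mem_univ x))
  obtain ⟨hys, Q, hQ⟩ := hy
  exact ⟨PrimeSpectrum.comap (Pi.evalRingHom T' ⟨y, hys⟩) Q, hQ⟩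

/-- Groups of multiplicative type and finite type are quasi-isotrivial. -/
theorem isQuasiIsotrivial_of_finiteType {A : Type u} [CommRing A] [HopfAlgebra R A] (hft : Algebra.FiniteType R A)
    (h : SGA3b.IsMultType R A) : SGA3b.IsQuasiIsotrivial R A := by
  obtain ⟨s, hs, H⟩ := exists_cover_split h
  refine ⟨s, hs, fun f hf => ?_⟩
  obtain ⟨S, _, _, _, _, N, _, hff, ⟨E⟩⟩ := H f hf
  haveI := hff
  haveI : Algebra.FiniteType (Localization.Away f) (Localization.Away f ⊗[R] A) :=
    Algebra.FiniteType.baseChange (A := A) (Localization.Away f)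
  obtain ⟨E'⟩ := exists_split_transfer' (R' := Localization.Away f) E
  obtain ⟨T, _, _, hT, hTff, ⟨ET⟩⟩ := exists_split_etale E'
  exact ⟨T, inferInstance, inferInstance, hT, hTff, N, inferInstance, exists_bialgEquiv ET⟩

end Groth.Agent.QIso
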