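import Groth.Agent.QIsoLib.Main
import Groth.Agent.HenselLib.EtaleLift
import Mathlib.Dynamics.Newton
import Mathlib.RingTheory.Henselian

set_option autoImplicit false

/-!
Isotriviality and quasi-isotriviality along nil ideals.
-/

noncomputable section

universe u

open scoped TensorProduct
open Groth.Agent.TorusField Groth.Agent.DiagHopf

namespace Groth.Agent.QIso

variable {R : Type u} [CommRing R]

theorem henselianRing_of_nil {I : Ideal R} (hI : ∀ x ∈ I, IsNilpotent x) : HenselianRing R I where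
  jac := fun x hx => by
    rw [Ideal.mem_jacobson_bot]
    exact fun y => (IsNilpotent.isUnit_add_one (Commute.isNilpotent_mul_right (Commute.all x y) (hI x hx)))
  is_henselian f _ a h1 h2 := by
    obtain ⟨u, hu⟩ := h2
    obtain ⟨v, hv⟩ := Ideal.Quotient.mk_surjective (↑u⁻¹ : R ⧸ I)
    have h : IsUnit (Polynomial.eval a f.derivative * v) := by
      have h0 : Ideal.Quotient.mk I (Polynomial.eval a f.derivative * v - 1) = 0 := by
        rw [map_sub, map_mul, ← hu, hv, Units.mul_inv, map_one, sub_self]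
      have := (hI _ (Ideal.Quotient.eq_zero_iff_mem.1 h0)).isUnit_add_one
      rwa [sub_add_cancel] at this
    have hd : IsUnit (Polynomial.aeval a f.derivative) := by
      rw [Polynomial.coe_aeval_eq_eval]; exact isUnit_of_mul_isUnit_left h
    obtain ⟨r, ⟨hr, hr0⟩, -⟩ := Polynomial.existsUnique_nilpotent_sub_and_aeval_eq_zero (x := a) (P := f)
      (by rw [Polynomial.coe_aeval_eq_eval]; exact hI _ h1) hd
    rw [Polynomial.coe_aeval_eq_eval] at hr0 hd
    refine ⟨r, hr0, ?_⟩
    obtain ⟨c, hc⟩ := Polynomial.binomExpansion f a (r - a)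
    rw [add_sub_cancel, hr0] at hc
    have hra : IsNilpotent (r - a) := by rw [← neg_sub]; exact hr.neg
    have hunit : IsUnit (c * (r - a) + f.derivative.eval a) :=
      by rw [add_comm]; exact (Commute.isNilpotent_mul_left (Commute.all c (r - a)) hra).isUnit_add_left_of_commute hd (Commute.all _ _)
    obtain ⟨w, hw⟩ := hunit
    have e : r - a = -(↑w⁻¹ * f.eval a) := by
      refine w.isUnit.mul_left_cancel ?_
      rw [mul_neg, ← mul_assoc, Units.mul_inv, one_mul, hw]
      linear_combination -hc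
    rw [e]
    exact I.neg_mem (I.mul_mem_left _ h1)

theorem isMultType_baseChange {A : Type u} [CommRing A] [HopfAlgebra R A] (h : SGA3b.IsMultType R A)
    (T : Type u) [CommRing T] [Algebra R T] : SGA3b.IsMultType T (T ⊗[R] A) := by
  obtain ⟨s, hs, H⟩ := exists_cover_split h
  refine ⟨algebraMap R T '' s, by rw [← Ideal.map_span, hs, Ideal.map_top], ?_⟩
  rintro _ ⟨f, hf, rfl⟩
  obtain ⟨S, _, _, _, _, N, _, hff, ⟨E⟩⟩ := H f hf
  let Tf := Localization.Away (algebraMap R T f)
  haveI := hff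
  let g : Localization.Away f →+* Tf := IsLocalization.Away.map (Localization.Away f) Tf (algebraMap R T) f
  letI : Algebra (Localization.Away f) Tf := g.toAlgebra
  haveI : IsScalarTower R (Localization.Away f) Tf := IsScalarTower.of_algebraMap_eq fun x => by
    show algebraMap R Tf x = g (algebraMap R (Localization.Away f) x)
    simp only [g, IsLocalization.Away.map, IsLocalization.map_eq]
    exact IsScalarTower.algebraMap_apply R T Tf x
  let U := Tf ⊗[Localization.Away f] S
  let j : S →ₐ[R] U :=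
    (Algebra.TensorProduct.includeRight : S →ₐ[Localization.Away f] U).restrictScalars R
  obtain ⟨E₁, -⟩ := exists_split_push E j
  obtain ⟨E₂⟩ := exists_split_transfer' (R' := T) E₁
  obtain ⟨E₃⟩ := exists_split_transfer' (R' := Tf) E₂
  exact ⟨U, inferInstance, inferInstance, inferInstance, N, inferInstance, exists_bialgEquiv E₃⟩

variable {A : Type u} [CommRing A] [HopfAlgebra R A] {I : Ideal R}

/-- Diagonalisability over a thickening of a split reduction. -/
theorem isDiag_of_nil_split {T C : Type u} [CommRing T] [Algebra R T] [CommRing C] [Algebra R C]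
    (h : SGA3b.IsMultType R A) (hI : ∀ x ∈ I, IsNilpotent x) (φ : T →ₐ[R] C) (hφ : Function.Surjective φ)
    (hker : RingHom.ker φ = I.map (algebraMap R T)) {N : Type u} [CommGroup N] (E : Split R A (Additive N) C) :
    SGA3b.IsDiag T (T ⊗[R] A) := by
  obtain ⟨E', -⟩ := exists_split_push E (Ideal.quotientKerAlgEquivOfSurjective hφ).symm.toAlgHom
  obtain ⟨E''⟩ := exists_split_transfer' (R' := T) E'
  have hnil : ∀ x ∈ RingHom.ker φ, IsNilpotent x := fun x hx => by
    rw [hker] at hx
    refine mem_nilradical.1 (Ideal.map_le_iff_le_comap.2 (fun y hy => ?_) hx)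
    exact mem_nilradical.2 ((hI y hy).map (algebraMap R T))
  exact isDiag_of_nil hnil (isMultType_baseChange h T) ⟨N, inferInstance, exists_bialgEquiv E''⟩

theorem comap_surjective_of_nil {T C : Type u} [CommRing T] [Algebra R T] [CommRing C] [Algebra R C]
    [Algebra (R ⧸ I) C] [IsScalarTower R (R ⧸ I) C] [Module.FaithfullyFlat (R ⧸ I) C] (φ : T →ₐ[R] C)
    (hI : ∀ x ∈ I, IsNilpotent x) : Function.Surjective (PrimeSpectrum.comap (algebraMap R T)) := by
  intro p
  have hp : I ≤ p.asIdeal := fun x hx => p.2.mem_of_pow_mem _ ((hI x hx).choose_spec ▸ p.asIdeal.zero_mem)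
  let p₀ : PrimeSpectrum (R ⧸ I) := ⟨p.asIdeal.map (Ideal.Quotient.mk I),
    Ideal.map_isPrime_of_surjective Ideal.Quotient.mk_surjective (by rw [Ideal.mk_ker]; exact hp)⟩
  obtain ⟨Q, hQ⟩ := PrimeSpectrum.comap_surjective_of_faithfullyFlat (B := C) p₀
  refine ⟨PrimeSpectrum.comap φ.toRingHom Q, PrimeSpectrum.ext ?_⟩
  show (Q.asIdeal.comap φ.toRingHom).comap (algebraMap R T) = p.asIdeal
  rw [Ideal.comap_comap, show φ.toRingHom.comp (algebraMap R T) =
    (algebraMap (R ⧸ I) C).comp (Ideal.Quotient.mk I) from RingHom.ext fun x =>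
      (φ.commutes x).trans (IsScalarTower.algebraMap_apply R (R ⧸ I) C x), ← Ideal.comap_comap]
  rw [show Q.asIdeal.comap (algebraMap (R ⧸ I) C) = p₀.asIdeal from congrArg PrimeSpectrum.asIdeal hQ]
  rw [Ideal.comap_map_of_surjective _ Ideal.Quotient.mk_surjective, ← RingHom.ker_eq_comap_bot, Ideal.mk_ker,
    sup_eq_left]
  exact hp

theorem isIsotrivial_of_mod_nil (hI : ∀ x ∈ I, IsNilpotent x) (h : SGA3b.IsMultType R A)
    (h0 : SGA3b.IsIsotrivial (R ⧸ I) ((R ⧸ I) ⊗[R] A)) : SGA3b.IsIsotrivial R A := by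
  obtain ⟨C, _, _, hetC, hfinC, hffC, N, _, ⟨e⟩⟩ := h0
  haveI := hetC; haveI := hfinC; haveI := hffC
  letI : Algebra R C := ((algebraMap (R ⧸ I) C).comp (Ideal.Quotient.mk I)).toAlgebra
  haveI : IsScalarTower R (R ⧸ I) C := IsScalarTower.of_algebraMap_eq fun _ => rfl
  haveI := henselianRing_of_nil hI
  obtain ⟨T, _, _, hfinT, hetT, ⟨ε⟩⟩ := HenselLib.exists_finite_etale_lift (A := R) (I := I) (C := C)
  let φ : T →ₐ[R] C := (ε.toAlgHom.restrictScalars R).comp Algebra.TensorProduct.includeRight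
  have hφ : Function.Surjective φ := fun c => by
    obtain ⟨z, rfl⟩ := ε.surjective c
    induction z using TensorProduct.induction_on with
    | zero => exact ⟨0, by simp⟩
    | add a b ha hb =>
      obtain ⟨a', ha'⟩ := ha
      obtain ⟨b', hb'⟩ := hb
      exact ⟨a' + b', by rw [map_add, ha', hb', ← map_add]⟩
    | tmul r t =>
      obtain ⟨r, rfl⟩ := Ideal.Quotient.mk_surjective r
      refine ⟨r • t, ?_⟩
      show ε ((1 : R ⧸ I) ⊗ₜ[R] (r • t)) = _
      rw [← TensorProduct.smul_tmul, ← Algebra.algebraMap_eq_smul_one]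
      rfl
  have hker : RingHom.ker φ = I.map (algebraMap R T) := by
    have e := Algebra.TensorProduct.quotIdealMapEquivTensorQuot T I
    ext x
    constructor
    · intro hx
      rw [← Ideal.Quotient.eq_zero_iff_mem]
      apply (Algebra.TensorProduct.quotIdealMapEquivTensorQuot T I).injective
      rw [map_zero]
      refine ((Algebra.TensorProduct.quotIdealMapEquivTensorQuot T I).commutes x).trans ?_
      show x ⊗ₜ[R] (1 : R ⧸ I) = 0
      apply (Algebra.TensorProduct.comm R T (R ⧸ I)).injective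
      rw [map_zero]
      exact ε.injective ((hx : ε ((1 : R ⧸ I) ⊗ₜ[R] x) = 0).trans (map_zero ε).symm)
    · intro hx
      refine Ideal.map_le_iff_le_comap.2 (fun y hy => ?_) hx
      show φ (algebraMap R T y) = 0
      rw [AlgHom.commutes]
      show algebraMap (R ⧸ I) C (Ideal.Quotient.mk I y) = 0
      rw [Ideal.Quotient.eq_zero_iff_mem.2 hy, map_zero]
  obtain ⟨E₀⟩ := exists_split_of_bialgEquiv e
  obtain ⟨E₁⟩ := exists_split_transfer E₀
  haveI := hetT
  exact ⟨T, inferInstance, inferInstance, hetT, hfinT,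
    Module.FaithfullyFlat.of_comap_surjective (comap_surjective_of_nil φ hI),
    isDiag_of_nil_split h hI φ hφ hker E₁⟩

theorem isQuasiIsotrivial_of_mod_nil (hI : ∀ x ∈ I, IsNilpotent x) (h : SGA3b.IsMultType R A)
    (h0 : SGA3b.IsQuasiIsotrivial (R ⧸ I) ((R ⧸ I) ⊗[R] A)) : SGA3b.IsQuasiIsotrivial R A := by
  obtain ⟨s₀, hs₀, H⟩ := h0
  refine ⟨Ideal.Quotient.mk I ⁻¹' s₀, ?_, fun f hf => ?_⟩
  · have h1 : (1 : R ⧸ I) ∈ Ideal.span (Ideal.Quotient.mk I '' (Ideal.Quotient.mk I ⁻¹' s₀)) := by
      rw [Set.image_preimage_eq _ Ideal.Quotient.mk_surjective, hs₀]; trivial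
    rw [← Ideal.map_span] at h1
    obtain ⟨y, hy, hy1⟩ := (Ideal.mem_map_iff_of_surjective _ Ideal.Quotient.mk_surjective).1 h1
    have hu : IsUnit y := by
      have h0 : Ideal.Quotient.mk I (y - 1) = 0 := by rw [map_sub, hy1, map_one, sub_self]
      have := (hI _ (Ideal.Quotient.eq_zero_iff_mem.1 h0)).isUnit_add_one
      rwa [sub_add_cancel] at this
    exact Ideal.eq_top_of_isUnit_mem _ hy hu
  obtain ⟨C, _, _, hetC, hffC, N, _, ⟨e⟩⟩ := H _ hf
  haveI := hetC; haveI := hffC
  let R₀ := Localization.Away (Ideal.Quotient.mk I f)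
  haveI : Algebra.Etale (R ⧸ I) R₀ := Algebra.Etale.of_isLocalizationAway (Ideal.Quotient.mk I f)
  letI : Algebra (R ⧸ I) C := ((algebraMap R₀ C).comp (algebraMap (R ⧸ I) R₀)).toAlgebra
  haveI : IsScalarTower (R ⧸ I) R₀ C := IsScalarTower.of_algebraMap_eq fun _ => rfl
  haveI : Algebra.Etale (R ⧸ I) C := Algebra.Etale.comp (R ⧸ I) R₀ C
  letI : Algebra R C := ((algebraMap (R ⧸ I) C).comp (Ideal.Quotient.mk I)).toAlgebra
  haveI : IsScalarTower R (R ⧸ I) C := IsScalarTower.of_algebraMap_eq fun _ => rfl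
  haveI : IsScalarTower R R₀ C := IsScalarTower.of_algebraMap_eq fun x => by
    rw [IsScalarTower.algebraMap_apply R (R ⧸ I) R₀ x]
    rfl
  obtain ⟨T, _, _, hetT, φ, hφ, hker⟩ := HenselLib.exists_etale_lift (A := R) I C
  haveI := hetT
  have hf' : IsUnit (algebraMap R T f) := by
    have hu : IsUnit (φ (algebraMap R T f)) := by
      rw [AlgHom.commutes]
      exact (IsLocalization.Away.algebraMap_isUnit (S := R₀) (Ideal.Quotient.mk I f)).map (algebraMap R₀ C)
    obtain ⟨u, hu⟩ := hu
    obtain ⟨v, hv⟩ := hφ ↑u⁻¹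
    have hmem : algebraMap R T f * v - 1 ∈ RingHom.ker φ := by
      rw [RingHom.mem_ker, map_sub, map_mul, ← hu, hv, Units.mul_inv, map_one, sub_self]
    rw [hker] at hmem
    have hn : IsNilpotent (algebraMap R T f * v - 1) := by
      refine mem_nilradical.1 (Ideal.map_le_iff_le_comap.2 (fun y hy => ?_) hmem)
      exact mem_nilradical.2 ((hI y hy).map (algebraMap R T))
    have := hn.isUnit_add_one
    rw [sub_add_cancel] at this
    exact isUnit_of_mul_isUnit_left this
  let g : Localization.Away f →+* T := IsLocalization.Away.lift f hf'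
  letI : Algebra (Localization.Away f) T := g.toAlgebra
  haveI : IsScalarTower R (Localization.Away f) T := IsScalarTower.of_algebraMap_eq fun x =>
    (IsLocalization.Away.lift_eq f hf' x).symm
  haveI : Algebra.Etale R (Localization.Away f) := Algebra.Etale.of_isLocalizationAway f
  haveI : Algebra.Etale (Localization.Away f) T := Algebra.Etale.of_restrictScalars R _ T
  refine ⟨T, inferInstance, inferInstance, inferInstance, Module.FaithfullyFlat.of_comap_surjective fun P => ?_, ?_⟩
  · let p := PrimeSpectrum.comap (algebraMap R (Localization.Away f)) P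
    have hfp : f ∉ p.asIdeal := fun h =>
      P.2.ne_top (Ideal.eq_top_of_isUnit_mem _ h (IsLocalization.Away.algebraMap_isUnit f))
    have hIp : I ≤ p.asIdeal := fun x hx => p.2.mem_of_pow_mem _ ((hI x hx).choose_spec ▸ p.asIdeal.zero_mem)
    let p₁ : PrimeSpectrum (R ⧸ I) := ⟨p.asIdeal.map (Ideal.Quotient.mk I),
      Ideal.map_isPrime_of_surjective Ideal.Quotient.mk_surjective (by rw [Ideal.mk_ker]; exact hIp)⟩
    have hp₁ : p₁.asIdeal.comap (Ideal.Quotient.mk I) = p.asIdeal := by
      rw [Ideal.comap_map_of_surjective _ Ideal.Quotient.mk_surjective, ← RingHom.ker_eq_comap_bot, Ideal.mk_ker,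
        sup_eq_left]
      exact hIp
    obtain ⟨p₀, hp₀⟩ : p₁ ∈ Set.range (PrimeSpectrum.comap (algebraMap (R ⧸ I) R₀)) := by
      rw [PrimeSpectrum.localization_away_comap_range R₀ (Ideal.Quotient.mk I f)]
      intro h
      exact hfp (hp₁ ▸ h)
    obtain ⟨Q, hQ⟩ := PrimeSpectrum.comap_surjective_of_faithfullyFlat (B := C) p₀
    refine ⟨PrimeSpectrum.comap φ.toRingHom Q,
      PrimeSpectrum.localization_comap_injective (Localization.Away f) (Submonoid.powers f) (PrimeSpectrum.ext ?_)⟩
    show ((Q.asIdeal.comap φ.toRingHom).comap (algebraMap (Localization.Away f) T)).comap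
      (algebraMap R (Localization.Away f)) = p.asIdeal
    rw [Ideal.comap_comap, Ideal.comap_comap, ← IsScalarTower.algebraMap_eq,
      show φ.toRingHom.comp (algebraMap R T) = ((algebraMap R₀ C).comp (algebraMap (R ⧸ I) R₀)).comp (Ideal.Quotient.mk I)
        from RingHom.ext fun x => φ.commutes x, ← Ideal.comap_comap, ← Ideal.comap_comap,
      show Q.asIdeal.comap (algebraMap R₀ C) = p₀.asIdeal from congrArg PrimeSpectrum.asIdeal hQ,
      show p₀.asIdeal.comap (algebraMap (R ⧸ I) R₀) = p₁.asIdeal from congrArg PrimeSpectrum.asIdeal hp₀, hp₁]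
  · obtain ⟨E₀⟩ := exists_split_of_bialgEquiv e
    obtain ⟨E₁⟩ := exists_split_transfer E₀
    obtain ⟨E₂⟩ := exists_split_transfer E₁
    obtain ⟨M, _, ⟨e'⟩⟩ := isDiag_of_nil_split h hI φ hφ hker E₂
    obtain ⟨E₃⟩ := exists_split_of_bialgEquiv e'
    obtain ⟨E₅⟩ := exists_split_transfer' (R' := Localization.Away f) E₃
    exact ⟨M, inferInstance, exists_bialgEquiv E₅⟩

end Groth.Agent.QIso
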