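import Groth.Agent.QIsoLib.Main
import Groth.Agent.HenselLib.Local
import Groth.Agent.HenselLib.EtaleLift
import Mathlib.RingTheory.Etale.Field
import Mathlib.RingTheory.LocalRing.Module

set_option autoImplicit false

/-!
Isotriviality over henselian local rings.
-/

noncomputable section

universe u

open scoped TensorProduct
open Groth.Agent.TorusField Groth.Agent.DiagHopf

namespace Groth.Agent.QIso

/-- Groups of multiplicative type and finite type over a henselian local ring are isotrivial. -/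
theorem isIsotrivial_of_henselian {R : Type u} [CommRing R] [HenselianLocalRing R] {A : Type u} [CommRing A]
    [HopfAlgebra R A] (hft : Algebra.FiniteType R A) (h : SGA3b.IsMultType R A) : SGA3b.IsIsotrivial R A := by
  classical
  haveI := hft
  obtain ⟨S, _, _, M₀, _, hff, ⟨E⟩⟩ := exists_split_of_isLocalRing h
  haveI := hff
  set m := IsLocalRing.maximalIdeal R
  haveI : Nontrivial S := by
    by_contra h
    rw [not_nontrivial_iff_subsingleton] at h
    exact Module.FaithfullyFlat.submodule_ne_top (R := R) (M := S) (IsLocalRing.maximalIdeal.isMaximal R)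
      (Subsingleton.elim _ _)
  haveI := fg_of_split' E
  haveI : AddGroup.FG (Additive M₀) := AddGroup.fg_iff_addMonoid_fg.2 inferInstance
  letI := Ideal.Quotient.field m
  obtain ⟨Ek, -⟩ := exists_split_push E (Algebra.TensorProduct.includeRight : S →ₐ[R] (R ⧸ m) ⊗[R] S)
  obtain ⟨Ek'⟩ := exists_split_transfer' (R' := R ⧸ m) Ek
  haveI : Nontrivial ((R ⧸ m) ⊗[R] S) :=
    Module.FaithfullyFlat.rTensor_nontrivial (R := R) (M := S) (N := R ⧸ m)
  have hmult := isMultType_of_split Ek'
  obtain ⟨L, _, _, hfin, hsep, N, _, -, ⟨eL⟩⟩ := isotrivial_of_field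
    (Algebra.FiniteType.baseChange (A := A) (R ⧸ m)) hmult
  haveI := hfin; haveI := hsep
  haveI : Algebra.FiniteType (R ⧸ m) L := Module.Finite.finiteType L
  haveI : Algebra.FormallyEtale (R ⧸ m) L := Algebra.FormallyEtale.of_isSeparable (R ⧸ m) L
  haveI : Algebra.Etale (R ⧸ m) L :=
    { formallyEtale := inferInstance, finitePresentation := Algebra.FinitePresentation.of_finiteType.1 inferInstance }
  letI : Algebra R L := ((algebraMap (R ⧸ m) L).comp (algebraMap R (R ⧸ m))).toAlgebra
  haveI : IsScalarTower R (R ⧸ m) L := IsScalarTower.of_algebraMap_eq fun _ => rfl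
  obtain ⟨R', _, _, hfinR, hetR, ⟨e⟩⟩ := HenselLib.exists_finite_etale_lift (A := R) (I := m) (C := L)
  haveI := hfinR; haveI := hetR
  let χ : R' →ₐ[R] L := (e.toAlgHom.restrictScalars R).comp Algebra.TensorProduct.includeRight
  obtain ⟨EL₀⟩ := exists_split_of_bialgEquiv eL
  obtain ⟨EL₁⟩ := exists_split_transfer EL₀
  let jS : S →ₐ[R] S ⊗[R] L := Algebra.TensorProduct.includeLeft
  let jL : L →ₐ[R] S ⊗[R] L := Algebra.TensorProduct.includeRight
  obtain ⟨m₀, hm₀⟩ : ∃ m : Ideal (S ⊗[R] L), m.IsMaximal := by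
    haveI : Nontrivial (S ⊗[R] L) := Module.FaithfullyFlat.lTensor_nontrivial (R := R) (M := S) (N := L)
    exact Ideal.exists_maximal _
  letI := Ideal.Quotient.field m₀
  obtain ⟨K₁, -⟩ := exists_split_push EL₁ ((Ideal.Quotient.mkₐ R m₀).comp jL)
  obtain ⟨K₂, -⟩ := exists_split_push E ((Ideal.Quotient.mkₐ R m₀).comp jS)
  obtain ⟨φ, -⟩ := exists_reindex_field K₁ K₂
  obtain ⟨EL⟩ := exists_split_reindex EL₁ φ
  obtain ⟨N', -, ⟨E'⟩⟩ := exists_split_nbhd E (Nbhd.mk R' χ) EL
  let ψ : (R ⧸ m) ⊗[R] N'.T →ₐ[R ⧸ m] (R ⧸ m) ⊗[R] R' := e.symm.toAlgHom.comp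
    (Algebra.TensorProduct.lift (Algebra.ofId (R ⧸ m) L) N'.χ fun _ _ => Commute.all _ _)
  obtain ⟨f, -⟩ := (HenselLib.bijective_baseChange_hom (A := R) (I := m) N'.T R').2 ψ
  obtain ⟨E'', -⟩ := exists_split_push E' f
  haveI : Nontrivial R' := χ.toRingHom.domain_nontrivial
  haveI : Module.Free R R' := Module.free_of_flat_of_isLocalRing
  exact ⟨R', inferInstance, inferInstance, hetR, hfinR, inferInstance, M₀, inferInstance, exists_bialgEquiv E''⟩

end Groth.Agent.QIso
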