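import Groth.Agent.DiagHopfLib.Torsion
import Groth.Agent.ProjLib.Descent
import Mathlib.RingTheory.Coalgebra.Convolution
import Mathlib.RingTheory.Etale.Descent
import Mathlib.RingTheory.Etale.Pi
import Mathlib.RingTheory.Finiteness.Projective
import Mathlib.RingTheory.HopfAlgebra.Convolution

set_option autoImplicit false

/-!
The torsion levels of a split group and the étale algebras of their group-like elements.
-/

noncomputable section

universe u

open scoped TensorProduct
open Groth.Agent.TorusField Groth.Agent.DiagHopf WithConv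

namespace Groth.Agent.QIso

variable {R : Type u} [CommRing R] {A : Type u} [CommRing A] [HopfAlgebra R A]
  {S : Type u} [CommRing S] [Algebra R S] {M : Type u} [AddCommGroup M]

theorem split_pow (E : Split R A M S) (n : ℕ) (m : M) : E.e (n • m) = E.e m ^ n := by
  induction n with
  | zero => rw [zero_nsmul, E.e_zero, pow_zero]
  | succ n ih => rw [succ_nsmul, E.e_add, ih, pow_succ]

/-- Algebra maps out of `A` are determined on a splitting. -/
theorem algHom_ext_split [Module.FaithfullyFlat R S] {A : Type u} [CommRing A] [Bialgebra R A]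
    (E : Split R A M S) {C : Type u} [CommRing C] [Algebra R C] {f g : A →ₐ[R] C}
    (h : ∀ m, Algebra.TensorProduct.map (AlgHom.id S S) f (E.e m) =
      Algebra.TensorProduct.map (AlgHom.id S S) g (E.e m)) : f = g := by
  have e : Algebra.TensorProduct.map (AlgHom.id S S) f = Algebra.TensorProduct.map (AlgHom.id S S) g :=
    AlgHom.toLinearMap_injective (E.e.ext h)
  refine AlgHom.ext fun a => Module.FaithfullyFlat.tensorProduct_mk_injective (A := R) (B := S) C ?_
  simpa using DFunLike.congr_fun e ((1 : S) ⊗ₜ[R] a)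

theorem map_id_comp {B C : Type u} [CommRing B] [Algebra R B] [CommRing C] [Algebra R C] {A : Type u} [CommRing A]
    [Algebra R A] (f : B →ₐ[R] C) (g : A →ₐ[R] B) (z : S ⊗[R] A) :
    Algebra.TensorProduct.map (AlgHom.id S S) (f.comp g) z =
      Algebra.TensorProduct.map (AlgHom.id S S) f (Algebra.TensorProduct.map (AlgHom.id S S) g z) := by
  induction z using TensorProduct.induction_on with
  | zero => simp
  | add p q hp hq => simp only [map_add, hp, hq]
  | tmul s a => simp

theorem quotExt_gen (E : Split R A M S) (n : ℕ) (m : M) :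
    quotExt S (SGA3b.torsionIdeal R A n) (E.e (n • m)) = 1 := by
  have key : (quotExt S (SGA3b.torsionIdeal R A n)).comp
      (Algebra.TensorProduct.map (AlgHom.id S S) (SGA3b.powConv R A n)) = (Algebra.ofId S _).comp (ev1 R A S) := by
    refine Algebra.TensorProduct.ext (Subsingleton.elim _ _) (AlgHom.ext fun x => ?_)
    have hx : Ideal.Quotient.mk (SGA3b.torsionIdeal R A n)
        (SGA3b.powConv R A n (x - algebraMap R A (Coalgebra.counit x))) = 0 := by
      rw [Ideal.Quotient.eq_zero_iff_mem]
      exact Ideal.mem_map_of_mem _ (by simp [RingHom.mem_ker])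
    rw [map_sub, map_sub, sub_eq_zero, AlgHom.commutes, Ideal.Quotient.mk_algebraMap] at hx
    simp only [quotExt, AlgHom.comp_apply, AlgHom.coe_restrictScalars', ev1,
      Algebra.TensorProduct.includeRight_apply, Algebra.TensorProduct.map_tmul, AlgHom.id_apply,
      Algebra.TensorProduct.lift_tmul, Ideal.Quotient.mkₐ_eq_mk, hx, one_mul]
    rw [Algebra.algebraMap_eq_smul_one, TensorProduct.tmul_smul]
    simp [← Algebra.TensorProduct.one_def, Algebra.algebraMap_eq_smul_one, TensorProduct.smul_tmul']
  rw [split_pow, ← map_powConv_gl n (E.gl m), ← AlgHom.comp_apply, key, AlgHom.comp_apply, (E.gl m).2, map_one]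

/-- Maps trivial on `n`-th powers kill the torsion ideal. -/
theorem apply_powConv [Module.FaithfullyFlat R S] (E : Split R A M S) (n : ℕ) {C : Type u} [CommRing C]
    [Algebra R C] (h : A →ₐ[R] C) (hh : ∀ m, Algebra.TensorProduct.map (AlgHom.id S S) h (E.e (n • m)) = 1) :
    SGA3b.torsionIdeal R A n ≤ RingHom.ker h := by
  rw [SGA3b.torsionIdeal, Ideal.map_le_iff_le_comap]
  intro a ha
  rw [RingHom.mem_ker] at ha
  have e : h.comp (SGA3b.powConv R A n) = (Algebra.ofId R C).comp (Bialgebra.counitAlgHom R A) := by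
    refine algHom_ext_split E fun m => ?_
    rw [map_id_comp, map_powConv_gl n (E.gl m), ← split_pow, hh]
    have e2 : Algebra.TensorProduct.map (AlgHom.id S S) ((Algebra.ofId R C).comp (Bialgebra.counitAlgHom R A)) =
        (Algebra.ofId S (S ⊗[R] C)).comp (ev1 R A S) :=
      Algebra.TensorProduct.ext (Subsingleton.elim _ _) (AlgHom.ext fun a => by
        simp [ev1, Algebra.algebraMap_eq_smul_one, TensorProduct.smul_tmul', ← Algebra.TensorProduct.one_def])
    rw [e2, AlgHom.comp_apply, (E.gl m).2, map_one]
  show h (SGA3b.powConv R A n a) = 0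
  rw [← AlgHom.comp_apply, e, AlgHom.comp_apply, ha, map_zero]

theorem isHopfIdeal_torsion [Module.FaithfullyFlat R S] (E : Split R A M S) (n : ℕ) :
    (SGA3b.torsionIdeal R A n).IsHopfIdeal R := by
  classical
  set J := SGA3b.torsionIdeal R A n
  let mk := Ideal.Quotient.mkₐ R J
  have hcounit : J ≤ RingHom.ker (Bialgebra.counitAlgHom R A) := apply_powConv E n _ fun m => by
    have e : Algebra.TensorProduct.map (AlgHom.id S S) (Bialgebra.counitAlgHom R A) =
        (Algebra.ofId S (S ⊗[R] R)).comp (ev1 R A S) :=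
      Algebra.TensorProduct.ext (Subsingleton.elim _ _) (AlgHom.ext fun a => by
        simp [ev1, Algebra.algebraMap_eq_smul_one, Algebra.TensorProduct.one_def, ← TensorProduct.tmul_smul])
    rw [e, AlgHom.comp_apply, (E.gl _).2, map_one]
  have hcomul : J ≤ RingHom.ker ((Algebra.TensorProduct.map mk mk).comp (Bialgebra.comulAlgHom R A)) :=
    apply_powConv E n _ fun m => by
      rw [map_id_comp]
      show Algebra.TensorProduct.map (AlgHom.id S S) (Algebra.TensorProduct.map mk mk) (D R A S _) = 1
      rw [(E.gl _).1, map_mul]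
      have h1 : (Algebra.TensorProduct.map (AlgHom.id S S) (Algebra.TensorProduct.map mk mk)).comp (J₁ R A S) =
          (Algebra.TensorProduct.map (AlgHom.id S S) Algebra.TensorProduct.includeLeft).comp (quotExt S J) :=
        Algebra.TensorProduct.ext (Subsingleton.elim _ _) (AlgHom.ext fun a => by simp [J₁, quotExt, mk])
      have h2 : (Algebra.TensorProduct.map (AlgHom.id S S) (Algebra.TensorProduct.map mk mk)).comp (J₂ R A S) =
          (Algebra.TensorProduct.map (AlgHom.id S S) Algebra.TensorProduct.includeRight).comp (quotExt S J) :=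
        Algebra.TensorProduct.ext (Subsingleton.elim _ _) (AlgHom.ext fun a => by simp [J₂, quotExt, mk])
      rw [← AlgHom.comp_apply, h1, ← AlgHom.comp_apply, h2, AlgHom.comp_apply, AlgHom.comp_apply, quotExt_gen,
        map_one, map_one, mul_one]
  have hanti : J ≤ RingHom.ker (mk.comp (HopfAlgebra.antipodeAlgHom R A)) := apply_powConv E n _ fun m => by
    let Ψ : S ⊗[R] (A ⊗[R] A) →ₐ[S] S ⊗[R] A := Algebra.TensorProduct.map (AlgHom.id S S)
      (Algebra.TensorProduct.lift (AlgHom.id R A) (HopfAlgebra.antipodeAlgHom R A) fun _ _ => Commute.all _ _)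
    have hΨ : Ψ.comp (D R A S) = (Algebra.ofId S _).comp (ev1 R A S) :=
      Algebra.TensorProduct.ext (Subsingleton.elim _ _) (AlgHom.ext fun a => by
        have h := HopfAlgebra.mul_antipode_lTensor_comul_apply (R := R) a
        simp only [AlgHom.comp_apply, AlgHom.coe_restrictScalars', Algebra.TensorProduct.includeRight_apply, D, Ψ,
          Algebra.TensorProduct.map_tmul, AlgHom.id_apply, ev1, Algebra.TensorProduct.lift_tmul, map_one, one_mul,
          Bialgebra.comulAlgHom_apply, Bialgebra.counitAlgHom_apply]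
        have e : ∀ z : A ⊗[R] A, Algebra.TensorProduct.lift (AlgHom.id R A) (HopfAlgebra.antipodeAlgHom R A)
            (fun _ _ => Commute.all _ _) z = LinearMap.mul' R A ((HopfAlgebra.antipode R).lTensor A z) := by
          intro z
          induction z using TensorProduct.induction_on with
          | zero => simp
          | add p q hp hq => simp only [map_add, hp, hq]
          | tmul p q => simp
        rw [e, h]
        simp [Algebra.algebraMap_eq_smul_one, TensorProduct.smul_tmul', ← Algebra.TensorProduct.one_def])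
    have h := congrArg (quotExt S J) (DFunLike.congr_fun hΨ (E.e (n • m)))
    rw [AlgHom.comp_apply, AlgHom.comp_apply, (E.gl _).1, map_mul, map_mul, (E.gl _).2, map_one, map_one,
      show Ψ (J₁ R A S (E.e (n • m))) = E.e (n • m) from
        DFunLike.congr_fun (show Ψ.comp (J₁ R A S) = AlgHom.id S _ from
          Algebra.TensorProduct.ext (Subsingleton.elim _ _) (AlgHom.ext fun a => by simp [Ψ, J₁])) _,
      quotExt_gen, one_mul] at h
    rw [← h]
    refine DFunLike.congr_fun (?_ : _ = ((quotExt S J).comp (Ψ.comp (J₂ R A S)))) _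
    exact Algebra.TensorProduct.ext (Subsingleton.elim _ _) (AlgHom.ext fun a => by simp [Ψ, J₂, quotExt, mk])
  exact {
    counit_eq_zero := fun x hx => hcounit hx
    map_mkQ_comul_eq_zero := fun x hx => hcomul hx
    antipode_mem := fun x hx => Ideal.Quotient.eq_zero_iff_mem.1 (hanti hx) }

theorem isCocomm_of_split [Module.FaithfullyFlat R S] {B : Type u} [CommRing B] [Bialgebra R B]
    (E : Split R B M S) : Coalgebra.IsCocomm R B := by
  let c : B ⊗[R] B →ₐ[R] B ⊗[R] B := (Algebra.TensorProduct.comm R B B).toAlgHom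
  have e : c.comp (Bialgebra.comulAlgHom R B) = Bialgebra.comulAlgHom R B := algHom_ext_split E fun m => by
    rw [map_id_comp]
    show Algebra.TensorProduct.map (AlgHom.id S S) c (D R B S _) = D R B S _
    rw [(E.gl m).1, map_mul]
    rw [← AlgHom.comp_apply, show (Algebra.TensorProduct.map (AlgHom.id S S) c).comp (J₁ R B S) = J₂ R B S from
      Algebra.TensorProduct.ext (Subsingleton.elim _ _) (AlgHom.ext fun a => by simp [J₁, J₂, c]),
      ← AlgHom.comp_apply, show (Algebra.TensorProduct.map (AlgHom.id S S) c).comp (J₂ R B S) = J₁ R B S from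
      Algebra.TensorProduct.ext (Subsingleton.elim _ _) (AlgHom.ext fun a => by simp [J₁, J₂, c]), mul_comm]
  exact ⟨LinearMap.ext fun x => DFunLike.congr_fun e x⟩

variable {B : Type u} [CommRing B] [Bialgebra R B]

/-- Extension of a functional. -/
def extFun (S : Type u) [CommRing S] [Algebra R S] (δ : B →ₗ[R] R) : S ⊗[R] B →ₗ[S] S :=
  (TensorProduct.AlgebraTensorModule.rid R S S).toLinearMap ∘ₗ δ.baseChange S

theorem extFun_tmul (δ : B →ₗ[R] R) (s : S) (b : B) : extFun S δ (s ⊗ₜ b) = δ b • s := by
  simp [extFun]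

theorem extFun_push {S' : Type u} [CommRing S'] [Algebra R S'] (f : S →ₐ[R] S') (δ : B →ₗ[R] R) (z : S ⊗[R] B) :
    f (extFun S δ z) = extFun S' δ (push f z) := by
  induction z using TensorProduct.induction_on with
  | zero => simp
  | add a b ha hb => simp only [map_add, ha, hb]
  | tmul s b => simp [extFun_tmul, push]

theorem extFun_gl_mul {y : S ⊗[R] B} (hy : IsGL R B S y) (δ δ' : WithConv (B →ₗ[R] R)) :
    extFun S (δ * δ').ofConv y = extFun S δ.ofConv y * extFun S δ'.ofConv y := by
  let Λ : S ⊗[R] (B ⊗[R] B) →ₗ[S] S :=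
    (TensorProduct.AlgebraTensorModule.rid R S S).toLinearMap ∘ₗ
      (LinearMap.mul' R R ∘ₗ TensorProduct.map δ.ofConv δ'.ofConv).baseChange S
  have h1 : ∀ z, extFun S (δ * δ').ofConv z = Λ (D R B S z) := by
    intro z
    induction z using TensorProduct.induction_on with
    | zero => simp
    | add a b ha hb => simp only [map_add, ha, hb]
    | tmul s b => simp [Λ, D, extFun_tmul, LinearMap.convMul_def]
  have h2 : ∀ u v, Λ (J₁ R B S u * J₂ R B S v) = extFun S δ.ofConv u * extFun S δ'.ofConv v := by
    intro u v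
    induction u using TensorProduct.induction_on with
    | zero => simp
    | add a b ha hb => simp only [map_add, add_mul, ha, hb]
    | tmul s p =>
      induction v using TensorProduct.induction_on with
      | zero => simp
      | add a b ha hb => simp only [map_add, mul_add, ha, hb]
      | tmul t q =>
        simp [Λ, J₁, J₂, extFun_tmul]
        rw [mul_comm, mul_smul]
  rw [h1, hy.1, h2]

/-- Evaluation of functionals at a group-like element is an algebra map. -/
def evalHom [Coalgebra.IsCocomm R B] {y : S ⊗[R] B} (hy : IsGL R B S y) : WithConv (B →ₗ[R] R) →ₐ[R] S :=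
  AlgHom.ofLinearMap
    { toFun := fun δ => extFun S δ.ofConv y
      map_add' := fun δ δ' => by simp [extFun, LinearMap.baseChange_add]
      map_smul' := fun r δ => by
        simp [extFun, LinearMap.baseChange_smul]
        exact (TensorProduct.AlgebraTensorModule.rid R S S).toLinearMap.map_smul_of_tower r _ }
    (by
      show extFun S (1 : WithConv (B →ₗ[R] R)).ofConv y = 1
      refine Eq.trans ?_ hy.2
      generalize y = z
      induction z using TensorProduct.induction_on with
      | zero => simp
      | add a b ha hb => simp only [map_add, ha, hb]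
      | tmul s b => simp [extFun_tmul, ev1, LinearMap.convOne_def, Algebra.smul_def, mul_comm])
    (extFun_gl_mul hy)

theorem evalHom_apply [Coalgebra.IsCocomm R B] {y : S ⊗[R] B} (hy : IsGL R B S y) (δ : WithConv (B →ₗ[R] R)) :
    evalHom hy δ = extFun S δ.ofConv y := rfl

/-- The algebra of group-like elements of a finite split bialgebra is étale. -/
theorem etale_dual [Module.FaithfullyFlat R S] [Coalgebra.IsCocomm R B] [Module.Finite R B] [Module.Projective R B]
    {Q : Type u} [AddCommGroup Q] [Finite Q] (E : Split R B Q S) :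
    Algebra.Etale R (WithConv (B →ₗ[R] R)) := by
  classical
  cases nonempty_fintype Q
  obtain ⟨k, f, g, -, -, hfg⟩ := Module.Finite.exists_comp_eq_id_of_projective R B
  let b : Fin k → B := fun i => f (Pi.single i 1)
  let c : Fin k → B →ₗ[R] R := fun i => LinearMap.proj i ∘ₗ g
  have hdual : ∀ x, ∑ i, c i x • b i = x := fun x => by
    conv_rhs => rw [← LinearMap.id_apply (R := R) x, ← hfg, LinearMap.comp_apply, pi_eq_sum_univ' (g x), map_sum]
    simp [b, c]
  have hdual' : ∀ z : S ⊗[R] B, ∑ i, extFun S (c i) z • ((1 : S) ⊗ₜ[R] b i) = z := by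
    intro z
    induction z using TensorProduct.induction_on with
    | zero => simp
    | add p q hp hq => simp only [map_add, add_smul, Finset.sum_add_distrib, hp, hq]
    | tmul s x =>
      simp only [extFun_tmul, TensorProduct.smul_tmul', smul_eq_mul, mul_one]
      rw [show ∑ i, (c i x • s) ⊗ₜ[R] b i = ∑ i, s ⊗ₜ[R] (c i x • b i) from
        Finset.sum_congr rfl fun i _ => TensorProduct.smul_tmul _ _ _, ← TensorProduct.tmul_sum, hdual]
  let Φ : S ⊗[R] WithConv (B →ₗ[R] R) →ₐ[S] Q → S :=
    Algebra.TensorProduct.lift (Algebra.ofId S _) (AlgHom.pi fun q => evalHom (E.gl q)) fun _ _ => Commute.all _ _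
  have hΦ : ∀ s δ q, Φ (s ⊗ₜ δ) q = s * extFun S δ.ofConv (E.e q) := fun s δ q => by
    simp [Φ, evalHom_apply]
  let Ψ : (Q → S) →ₗ[S] S ⊗[R] WithConv (B →ₗ[R] R) :=
    { toFun := fun v => ∑ i, E.e.constr S v ((1 : S) ⊗ₜ[R] b i) • ((1 : S) ⊗ₜ[R] toConv (c i))
      map_add' := fun v w => by simp [add_smul, Finset.sum_add_distrib]
      map_smul' := fun r v => by simp [Finset.smul_sum, mul_smul] }
  have h1 : ∀ z, Ψ (Φ z) = z := by
    intro z
    induction z using TensorProduct.induction_on with
    | zero => simp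
    | add p q hp hq => simp only [map_add, hp, hq]
    | tmul s δ =>
      have e : ∀ w, E.e.constr S (Φ (s ⊗ₜ δ)) w = s * extFun S δ.ofConv w := fun w => by
        refine LinearMap.congr_fun (?_ : _ = s • extFun S δ.ofConv) w
        exact E.e.ext fun q => by simp [hΦ]
      show ∑ i, E.e.constr S (Φ (s ⊗ₜ δ)) ((1 : S) ⊗ₜ[R] b i) • ((1 : S) ⊗ₜ[R] toConv (c i)) = _
      simp only [e, extFun_tmul, TensorProduct.smul_tmul', smul_eq_mul, mul_one]
      rw [show ∑ i, (s * δ.ofConv (b i) • (1 : S)) ⊗ₜ[R] toConv (c i) = ∑ i, s ⊗ₜ[R] (δ.ofConv (b i) • toConv (c i))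
        from Finset.sum_congr rfl fun i _ => by rw [mul_smul_comm, mul_one, TensorProduct.smul_tmul],
        ← TensorProduct.tmul_sum]
      congr 1
      apply WithConv.ext
      rw [WithConv.ofConv_sum]
      refine LinearMap.ext fun x => ?_
      conv_rhs => rw [← hdual x]
      simp [mul_comm]
  have h2 : ∀ v, Φ (Ψ v) = v := by
    intro v
    funext q
    show Φ (∑ i, E.e.constr S v ((1 : S) ⊗ₜ[R] b i) • ((1 : S) ⊗ₜ[R] toConv (c i))) q = v q
    simp only [map_sum, map_smul, Finset.sum_apply, Pi.smul_apply, hΦ, one_mul, smul_eq_mul]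
    conv_rhs => rw [← E.e.constr_basis S v q, ← hdual' (E.e q), map_sum]
    exact Finset.sum_congr rfl fun i _ => by simp [mul_comm]
  let L : (S ⊗[R] WithConv (B →ₗ[R] R)) ≃ₐ[S] (Q → S) :=
    AlgEquiv.ofBijective Φ ⟨Function.LeftInverse.injective h1, Function.RightInverse.surjective h2⟩
  haveI : Algebra.Etale S (S ⊗[R] WithConv (B →ₗ[R] R)) := Algebra.Etale.of_equiv L.symm
  exact Algebra.Etale.of_etale_tensorProduct_of_faithfullyFlat (T := S)

/-- The universal group-like element. -/
theorem exists_universal_gl [Coalgebra.IsCocomm R B] [Module.Finite R B] [Module.Projective R B] :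
    ∃ y₀ : WithConv (B →ₗ[R] R) ⊗[R] B, IsGL R B _ y₀ ∧
      ∀ (T : Type u) [CommRing T] [Algebra R T] (y : T ⊗[R] B) (hy : IsGL R B T y), push (evalHom hy) y₀ = y := by
  classical
  obtain ⟨k, f, g, -, -, hfg⟩ := Module.Finite.exists_comp_eq_id_of_projective R B
  let b : Fin k → B := fun i => f (Pi.single i 1)
  let c : Fin k → WithConv (B →ₗ[R] R) := fun i => toConv (LinearMap.proj i ∘ₗ g)
  have hdual : ∀ x, ∑ i, (c i).ofConv x • b i = x := fun x => by
    conv_rhs => rw [← LinearMap.id_apply (R := R) x, ← hfg, LinearMap.comp_apply, pi_eq_sum_univ' (g x), map_sum]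
    simp [b, c]
  have hfun : ∀ δ : WithConv (B →ₗ[R] R), ∑ i, δ.ofConv (b i) • c i = δ := fun δ => by
    apply WithConv.ext
    rw [WithConv.ofConv_sum]
    refine LinearMap.ext fun x => ?_
    conv_rhs => rw [← hdual x]
    simp [mul_comm]
  let y₀ : WithConv (B →ₗ[R] R) ⊗[R] B := ∑ i, c i ⊗ₜ b i
  refine ⟨y₀, ⟨?_, ?_⟩, fun T _ _ y hy => ?_⟩
  · have hsq : ∀ z : B ⊗[R] B,
        ∑ i, ∑ j, LinearMap.mul' R R (TensorProduct.map (c i).ofConv (c j).ofConv z) • (b i ⊗ₜ[R] b j) = z := by
      intro z
      induction z using TensorProduct.induction_on with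
      | zero => simp
      | add p q hp hq => simp only [map_add, add_smul, Finset.sum_add_distrib, hp, hq]
      | tmul p q =>
        conv_rhs => rw [← hdual p, ← hdual q, TensorProduct.sum_tmul]
        refine Finset.sum_congr rfl fun i _ => ?_
        rw [TensorProduct.tmul_sum]
        refine Finset.sum_congr rfl fun j _ => ?_
        rw [TensorProduct.smul_tmul, TensorProduct.tmul_smul, TensorProduct.tmul_smul, smul_smul]
        simp [mul_comm]
    simp only [y₀, map_sum, Finset.sum_mul_sum]
    simp only [D, J₁, J₂, Algebra.TensorProduct.map_tmul, AlgHom.id_apply, Algebra.TensorProduct.includeLeft_apply,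
      Algebra.TensorProduct.includeRight_apply, Algebra.TensorProduct.tmul_mul_tmul, one_mul, mul_one]
    have e : ∀ i j, (c i * c j) ⊗ₜ[R] (b i ⊗ₜ[R] b j) =
        ∑ k, c k ⊗ₜ[R] ((c i * c j).ofConv (b k) • (b i ⊗ₜ[R] b j)) := fun i j => by
      conv_lhs => rw [← hfun (c i * c j), TensorProduct.sum_tmul]
      exact Finset.sum_congr rfl fun k _ => TensorProduct.smul_tmul _ _ _
    simp only [e]
    rw [Finset.sum_comm_cycle]
    refine Finset.sum_congr rfl fun k _ => ?_
    simp only [← TensorProduct.tmul_sum]
    congr 1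
    conv_lhs => rw [Bialgebra.comulAlgHom_apply, ← hsq (CoalgebraStruct.comul (b k))]
    rfl
  · simp only [y₀, map_sum]
    refine Eq.trans ?_ (hfun 1)
    refine Finset.sum_congr rfl fun i _ => ?_
    simp [ev1, LinearMap.convOne_def, Algebra.smul_def, mul_comm]
  · simp only [y₀, map_sum, push, Algebra.TensorProduct.map_tmul, AlgHom.id_apply, evalHom_apply]
    generalize y = z
    induction z using TensorProduct.induction_on with
    | zero => simp
    | add p q hp hq => simp only [map_add, TensorProduct.add_tmul, Finset.sum_add_distrib, hp, hq]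
    | tmul t x =>
      simp only [extFun_tmul, TensorProduct.smul_tmul, ← TensorProduct.tmul_sum, hdual]

end Groth.Agent.QIso
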