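import Groth.Agent.QIsoLib.Level
import Groth.Agent.DiagHopfLib.Connected
import Mathlib.GroupTheory.FiniteAbelian.Basic
import Mathlib.RingTheory.Ideal.GoingDown
import Mathlib.RingTheory.LocalRing.ResidueField.Ideal

set_option autoImplicit false

/-!
Lifting group-like elements from a residue field using one torsion level.
-/

noncomputable section

universe u

open scoped TensorProduct
open Groth.Agent.TorusField Groth.Agent.DiagHopf

namespace Groth.Agent.QIso

theorem exists_not_mem_nsmul {G : Type u} [AddCommGroup G] [AddGroup.FG G] {m : G} (hm : m ≠ 0) :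
    ∃ n : ℕ, 0 < n ∧ ∀ x : G, n • x ≠ m := by
  classical
  obtain ⟨r, ι, _, p, hp, e, ⟨φ⟩⟩ := AddCommGroup.equiv_free_prod_directSum_zmod G
  haveI : ∀ i, NeZero (p i ^ e i) := fun i => ⟨pow_ne_zero _ (hp i).ne_zero⟩
  by_cases h1 : (φ m).1 = 0
  · refine ⟨∏ i, p i ^ e i, Finset.prod_pos fun i _ => pow_pos (hp i).pos _, fun x hx => hm ?_⟩
    have h2 : (φ m).2 = 0 := by
      rw [← hx, map_nsmul, Prod.smul_snd]
      refine DFinsupp.ext fun i => ?_
      obtain ⟨c, hc⟩ := Finset.dvd_prod_of_mem (fun i => p i ^ e i) (Finset.mem_univ i)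
      show ((∏ i, p i ^ e i) • (φ x).2) i = 0
      rw [DirectSum.smul_apply, hc, nsmul_eq_mul, Nat.cast_mul, ZMod.natCast_self, zero_mul, zero_mul]
    exact φ.injective ((Prod.ext h1 h2).trans (map_zero φ).symm)
  · obtain ⟨i, hi⟩ : ∃ i, (φ m).1 i ≠ 0 := by
      by_contra h
      push Not at h
      exact h1 (Finsupp.ext h)
    refine ⟨((φ m).1 i).natAbs + 1, Nat.succ_pos _, fun x hx => hi ?_⟩
    have : (φ m).1 i = ((((φ m).1 i).natAbs + 1 : ℕ) : ℤ) * (φ x).1 i := by
      conv_lhs => rw [← hx, map_nsmul, Prod.smul_fst, Finsupp.smul_apply, nsmul_eq_mul]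
    exact Int.eq_zero_of_dvd_of_natAbs_lt_natAbs ⟨_, this⟩ (by rw [Int.natAbs_natCast]; exact Nat.lt_succ_self _)

theorem exists_sep {G : Type u} [AddCommGroup G] [AddGroup.FG G] (F : Finset G) :
    ∃ n : ℕ, 0 < n ∧ ∀ a ∈ F, ∀ b ∈ F, (a : G ⧸ (nsmulAddMonoidHom n : G →+ G).range) = b → a = b := by
  classical
  have H : ∀ m : G, ∃ n : ℕ, 0 < n ∧ (m ≠ 0 → ∀ x : G, n • x ≠ m) := fun m => by
    rcases eq_or_ne m 0 with h | h
    · exact ⟨1, one_pos, fun h' => absurd h h'⟩
    · obtain ⟨n, hn, hn'⟩ := exists_not_mem_nsmul h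
      exact ⟨n, hn, fun _ => hn'⟩
  choose N hN hN' using H
  let P := (F ×ˢ F).image fun q => -q.1 + q.2
  refine ⟨∏ m ∈ P, N m, Finset.prod_pos fun m _ => hN m, fun a ha b hb hab => ?_⟩
  obtain ⟨c, hc⟩ := QuotientAddGroup.eq.1 hab
  by_contra hne
  have hmem : -a + b ∈ P := Finset.mem_image.2 ⟨(a, b), Finset.mem_product.2 ⟨ha, hb⟩, rfl⟩
  obtain ⟨k, hk⟩ := Finset.dvd_prod_of_mem N hmem
  refine hN' (-a + b) (fun h => hne ?_) (k • c) ?_
  · have := congrArg (a + ·) h
    simpa using this.symm
  · rw [← mul_nsmul', ← hk]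
    exact hc

variable {R : Type u} [CommRing R]

theorem exists_join {P K₁ K₂ : Type u} [Field P] [Algebra R P] [Field K₁] [Algebra R K₁] [Field K₂] [Algebra R K₂]
    (a : P →ₐ[R] K₁) (b : P →ₐ[R] K₂) :
    ∃ (L : Type u) (_ : Field L) (_ : Algebra R L) (j₁ : K₁ →ₐ[R] L) (j₂ : K₂ →ₐ[R] L), j₁.comp a = j₂.comp b := by
  letI := a.toRingHom.toAlgebra
  letI := b.toRingHom.toAlgebra
  haveI : IsScalarTower R P K₁ := IsScalarTower.of_algebraMap_eq fun x => (a.commutes x).symm
  haveI : IsScalarTower R P K₂ := IsScalarTower.of_algebraMap_eq fun x => (b.commutes x).symm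
  obtain ⟨m, hm⟩ := Ideal.exists_maximal (K₁ ⊗[P] K₂)
  letI := Ideal.Quotient.field m
  refine ⟨(K₁ ⊗[P] K₂) ⧸ m, inferInstance, inferInstance,
    (Ideal.Quotient.mkₐ R m).comp
      ((Algebra.TensorProduct.includeLeft : K₁ →ₐ[P] K₁ ⊗[P] K₂).restrictScalars R),
    (Ideal.Quotient.mkₐ R m).comp
      ((Algebra.TensorProduct.includeRight : K₂ →ₐ[P] K₁ ⊗[P] K₂).restrictScalars R), AlgHom.ext fun x => ?_⟩
  simp only [AlgHom.comp_apply, AlgHom.coe_restrictScalars', Algebra.TensorProduct.includeLeft_apply,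
    Algebra.TensorProduct.includeRight_apply]
  congr 1
  show algebraMap P K₁ x ⊗ₜ[P] (1 : K₂) = (1 : K₁) ⊗ₜ[P] algebraMap P K₂ x
  rw [Algebra.algebraMap_eq_smul_one, Algebra.algebraMap_eq_smul_one, TensorProduct.smul_tmul]

variable {A : Type u} [CommRing A] [HopfAlgebra R A] {S : Type u} [CommRing S] [Algebra R S]
  {M : Type u} [AddCommGroup M]

/-- Group-like elements agreeing at all points are equal. -/
theorem gl_eq_of_points {B : Type u} [CommRing B] [Bialgebra R B] {N : Type u} [AddCommGroup N]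
    {W : Type u} [CommRing W] [Algebra R W] (E : Split R B N W) {x y : W ⊗[R] B}
    (hx : IsGL R B W x) (hy : IsGL R B W y)
    (h : ∀ P : Ideal W, P.IsPrime → ∃ (L : Type u) (_ : Field L) (_ : Algebra R L) (j : W →ₐ[R] L),
      RingHom.ker j = P ∧ push j x = push j y) : x = y := by
  classical
  refine E.e.ext_elem fun c => ?_
  have hi : ∀ {z}, IsGL R B W z → IsIdempotentElem (E.e.repr z c) := fun {z} hz => by
    have := E.repr_idem hz c c
    rwa [if_pos rfl] at this
  refine eq_of_isNilpotent_sub_of_isIdempotentElem (hi hx) (hi hy) ?_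
  rw [nilpotent_iff_mem_prime]
  intro P hP
  obtain ⟨L, _, _, j, hjP, hj⟩ := h P hP
  obtain ⟨E', hE'⟩ := exists_split_push E j
  rw [← hjP, RingHom.mem_ker, map_sub, ← repr_push E E' j hE', ← repr_push E E' j hE', hj, sub_self]

/-- The residue point of a prime. -/
theorem exists_point {W : Type u} [CommRing W] [Algebra R W] (P : Ideal W) [P.IsPrime] :
    RingHom.ker (IsScalarTower.toAlgHom R W P.ResidueField) = P :=
  Ideal.ker_algebraMap_residueField P

theorem flat_of_split [Module.FaithfullyFlat R S] (E : Split R A M S) : Module.Projective R A := by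
  haveI : Module.Free S (S ⊗[R] A) := Module.Free.of_basis E.e
  exact ProjLib.projective_of_faithfullyFlat (R := R) (S := S) (M := A)

/-- Over a local ring group-like elements trivial at the closed point are trivial. -/
theorem gl_eq_one [Module.FaithfullyFlat R S] (E : Split R A M S) {T : Type u} [CommRing T] [Algebra R T]
    [IsLocalRing T] {L : Type u} [Field L] [Algebra R L] (ρ : T →ₐ[R] L)
    (hρ : RingHom.ker ρ = IsLocalRing.maximalIdeal T) {z : T ⊗[R] A} (hz : IsGL R A T z) (h : push ρ z = 1) :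
    z = 1 := by
  classical
  haveI := flat_of_split E
  let U := S ⊗[R] T
  let iS : S →ₐ[R] U := Algebra.TensorProduct.includeLeft
  let iT : T →ₐ[R] U := Algebra.TensorProduct.includeRight
  obtain ⟨EU, hEU⟩ := exists_split_push E iS
  let c := EU.e.repr (push iT z) 0
  let W := (S ⊗[R] S) ⊗[R] T
  let k₁ : U →ₐ[R] W := Algebra.TensorProduct.map Algebra.TensorProduct.includeLeft (AlgHom.id R T)
  let k₂ : U →ₐ[R] W := Algebra.TensorProduct.map Algebra.TensorProduct.includeRight (AlgHom.id R T)
  obtain ⟨E₁, hE₁⟩ := exists_split_push EU k₁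
  obtain ⟨E₂, hE₂⟩ := exists_split_push EU k₂
  have hk : push k₁ (push iT z) = push k₂ (push iT z) := by
    rw [← push_comp', ← push_comp',
      show k₁.comp iT = k₂.comp iT from AlgHom.ext fun x => by simp [k₁, k₂, iT, U, W, Algebra.TensorProduct.includeLeft_apply, Algebra.TensorProduct.includeRight_apply, Algebra.TensorProduct.map_tmul, Algebra.TensorProduct.lift_tmul]]
  have heq : k₁ c = k₂ c := by
    rw [← repr_push EU E₁ k₁ hE₁, ← repr_push EU E₂ k₂ hE₂, hk]
    exact repr_zero_indep E₁ E₂ ((hz.push iT).push k₂)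
  obtain ⟨r, hr⟩ := exists_of_coface_eq (R := R) (S := S) (A := T) (z := c) heq
  have hinj : Function.Injective iT := by
    intro a b hab
    exact Module.FaithfullyFlat.tensorProduct_mk_injective (A := R) (B := S) T hab
  have hci : IsIdempotentElem c := by
    have := EU.repr_idem (hz.push iT) 0 0
    rwa [if_pos rfl] at this
  have hrc : iT r = c := hr
  have hri : IsIdempotentElem r := hinj (by rw [map_mul, hrc]; exact hci)
  have hρr : ρ r = 1 := by
    let UL := S ⊗[R] L
    let jL : L →ₐ[R] UL := Algebra.TensorProduct.includeRight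
    let μ : U →ₐ[R] UL := Algebra.TensorProduct.map (AlgHom.id R S) ρ
    obtain ⟨EL, hEL⟩ := exists_split_push EU μ
    have hinjL : Function.Injective jL := fun a b hab =>
      Module.FaithfullyFlat.tensorProduct_mk_injective (A := R) (B := S) L hab
    refine hinjL ?_
    have e : μ.comp iT = jL.comp ρ := AlgHom.ext fun x => by simp [μ, iT, jL, U, UL, Algebra.TensorProduct.includeLeft_apply, Algebra.TensorProduct.includeRight_apply, Algebra.TensorProduct.map_tmul, Algebra.TensorProduct.lift_tmul]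
    have h2 := DFunLike.congr_fun e r
    rw [AlgHom.comp_apply, AlgHom.comp_apply, hrc, ← repr_push EU EL μ hEL, ← push_comp', e, push_comp', h,
      map_one, ← EL.e_zero, Module.Basis.repr_self, Finsupp.single_eq_same] at h2
    rw [← h2, map_one]
  have hr1 : r = 1 := by
    have hu : IsUnit r := by
      by_contra hu
      have : r ∈ RingHom.ker ρ := hρ ▸ hu
      rw [RingHom.mem_ker, hρr] at this
      exact one_ne_zero this
    exact hu.mul_left_cancel (by rw [hri.eq, mul_one])
  have hiA : Function.Injective (push (A := A) iT) :=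
    Module.Flat.rTensor_preserves_injective_linearMap (M := A) iT.toLinearMap hinj
  refine hiA ?_
  rw [map_one]
  refine EU.e.ext_elem fun j => ?_
  have := EU.repr_idem (hz.push iT) 0 j
  rw [show EU.e.repr (push iT z) 0 = 1 by show c = 1; rw [← hrc, hr1, map_one], one_mul] at this
  rw [this, ← EU.e_zero, Module.Basis.repr_self, Finsupp.single_apply]

/-- The universal level for lifting a group-like element at a point. -/
theorem exists_level_lift [Module.FaithfullyFlat R S] [AddGroup.FG M] (E : Split R A M S) {L : Type u} [Field L]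
    [Algebra R L] {xL : L ⊗[R] A} (hxL : IsGL R A L xL) :
    ∃ n : ℕ, 0 < n ∧ ∀ [(SGA3b.torsionIdeal R A n).IsHopfIdeal R] (T : Type u) [CommRing T] [Algebra R T]
      [IsLocalRing T] (ρ : T →ₐ[R] L), RingHom.ker ρ = IsLocalRing.maximalIdeal T →
      ∀ y : T ⊗[R] (A ⧸ SGA3b.torsionIdeal R A n), IsGL R (A ⧸ SGA3b.torsionIdeal R A n) T y →
        push ρ y = push (AlgHom.id R L) (quotExt L (SGA3b.torsionIdeal R A n) xL) →
        ∃ x : T ⊗[R] A, IsGL R A T x ∧ push ρ x = xL := by
  classical
  haveI := flat_of_split E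
  -- candidate exponents
  let jS : S →ₐ[R] S ⊗[R] L := Algebra.TensorProduct.includeLeft
  let jL : L →ₐ[R] S ⊗[R] L := Algebra.TensorProduct.includeRight
  obtain ⟨EL, hEL⟩ := exists_split_push E jS
  let F₀ := (EL.e.repr (push jL xL)).support
  let i₁ : S →ₐ[R] S ⊗[R] S := Algebra.TensorProduct.includeLeft
  let i₂ : S →ₐ[R] S ⊗[R] S := Algebra.TensorProduct.includeRight
  obtain ⟨E₁, hE₁⟩ := exists_split_push E i₁
  obtain ⟨E₂, hE₂⟩ := exists_split_push E i₂
  let F := F₀.biUnion fun f => (E₁.e.repr (E₂.e f)).support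
  let F₂ := F.biUnion fun f => (E₁.e.repr (E₂.e f)).support
  obtain ⟨n, hn, hsep⟩ := exists_sep (F ∪ F₂)
  refine ⟨n, hn, fun {_} T _ _ _ ρ hρ y hy hyL => ?_⟩
  have hpid : ∀ {B : Type u} [CommRing B] [Bialgebra R B] (z : L ⊗[R] B), push (AlgHom.id R L) z = z :=
    fun z => by simp [push]
  rw [hpid] at hyL
  -- naturality of the quotient map
  have hq : ∀ {V V' : Type u} [CommRing V] [Algebra R V] [CommRing V'] [Algebra R V'] (j : V →ₐ[R] V')
      (z : V ⊗[R] A), quotExt V' (SGA3b.torsionIdeal R A n) (push j z) = push j (quotExt V (SGA3b.torsionIdeal R A n) z) := by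
    intro V V' _ _ _ _ j z
    induction z using TensorProduct.induction_on with
    | zero => simp
    | add a b ha hb => simp only [map_add, ha, hb]
    | tmul s a => simp [push, quotExt]
  obtain ⟨E', hE'⟩ := exists_split_torsion E n (SGA3b.torsionIdeal R A n) rfl
  -- transition between two points of `S`
  have trans' : ∀ {K : Type u} [Field K] [Algebra R K] (a b : S →ₐ[R] K) (f : M),
      ∃ g ∈ (E₁.e.repr (E₂.e f)).support, push b (E.e f) = push a (E.e g) := by
    intro K _ _ a b f
    let l : S ⊗[R] S →ₐ[R] K := Algebra.TensorProduct.lift a b fun _ _ => Commute.all _ _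
    have ha : l.comp i₁ = a := AlgHom.ext fun x => by simp [l, i₁]
    have hb : l.comp i₂ = b := AlgHom.ext fun x => by simp [l, i₂]
    obtain ⟨EK, hEK⟩ := exists_split_push E₁ l
    have hg0 : IsGL R A K (push b (E.e f)) := (E.gl f).push b
    obtain ⟨g, hg⟩ := EK.exists_eq hg0
    refine ⟨g, Finsupp.mem_support_iff.2 fun h0 => ?_, by rw [hg, hEK, hE₁, ← push_comp', ha]⟩
    have := repr_push E₁ EK l hEK (E₂.e f) g
    rw [h0, map_zero, hE₂, ← push_comp', hb, hg, Module.Basis.repr_self, Finsupp.single_eq_same] at this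
    exact one_ne_zero this
  -- the class at a point
  have uniq : ∀ {K : Type u} [Field K] [Algebra R K] (a : S →ₐ[R] K) (p q : M ⧸ (nsmulAddMonoidHom n : M →+ M).range),
      push a (E'.e p) = push a (E'.e q) → p = q := by
    intro K _ _ a p q h
    obtain ⟨EK, hEK⟩ := exists_split_push E' a
    exact EK.e.injective (by rw [hEK, hEK, h])
  let U := T ⊗[R] S
  let iT : T →ₐ[R] U := Algebra.TensorProduct.includeLeft
  let iS : S →ₐ[R] U := Algebra.TensorProduct.includeRight
  obtain ⟨EU, hEU⟩ := exists_split_push E iS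
  obtain ⟨EU', hEU'⟩ := exists_split_push E' iS
  let d := fun r => EU'.e.repr (push iT y) r
  -- a point over the closed point
  obtain ⟨m₀, hm₀⟩ : ∃ m : Ideal (S ⊗[R] L), m.IsMaximal := by
    haveI : Nontrivial (S ⊗[R] L) :=
      Module.FaithfullyFlat.lTensor_nontrivial (R := R) (M := S) (N := L)
    exact Ideal.exists_maximal _
  letI := Ideal.Quotient.field m₀
  let π₀ := Ideal.Quotient.mkₐ R m₀
  let l₀ : U →ₐ[R] (S ⊗[R] L) ⧸ m₀ :=
    π₀.comp (Algebra.TensorProduct.lift (jL.comp ρ) jS fun _ _ => Commute.all _ _)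
  have hl₀T : l₀.comp iT = (π₀.comp jL).comp ρ := AlgHom.ext fun x => by simp [l₀, iT, U, Algebra.TensorProduct.includeLeft_apply, Algebra.TensorProduct.includeRight_apply, Algebra.TensorProduct.map_tmul, Algebra.TensorProduct.lift_tmul]
  have hl₀S : l₀.comp iS = π₀.comp jS := AlgHom.ext fun x => by simp [l₀, iS, U, Algebra.TensorProduct.includeLeft_apply, Algebra.TensorProduct.includeRight_apply, Algebra.TensorProduct.map_tmul, Algebra.TensorProduct.lift_tmul]
  obtain ⟨E₀, hE₀⟩ := exists_split_push EL π₀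
  obtain ⟨f₀, hf₀⟩ := E₀.exists_eq ((hxL.push jL).push π₀)
  have hf₀mem : f₀ ∈ F₀ := Finsupp.mem_support_iff.2 fun h0 => by
    have := repr_push EL E₀ π₀ hE₀ (push jL xL) f₀
    rw [h0, map_zero, hf₀, Module.Basis.repr_self, Finsupp.single_eq_same] at this
    exact one_ne_zero this
  have hf₀e : push (π₀.comp jL) xL = push (π₀.comp jS) (E.e f₀) := by
    rw [push_comp', hf₀, hE₀, hEL, ← push_comp']
  have hcl₀ : push (l₀.comp iT) y = push (l₀.comp iS) (E'.e f₀) := by
    rw [hl₀T, hl₀S, push_comp', hyL, ← hq, hf₀e, hq, ← hE']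
  -- the class at every point
  have hclass : ∀ (P : Ideal U) [P.IsPrime], ∃ f ∈ F,
      push ((IsScalarTower.toAlgHom R U P.ResidueField).comp iT) y =
        push ((IsScalarTower.toAlgHom R U P.ResidueField).comp iS) (E'.e f) := by
    intro P _
    let P₀ := RingHom.ker l₀
    haveI : P₀.IsPrime := RingHom.ker_isPrime _
    have hP₀ : P₀.comap (algebraMap T U) = IsLocalRing.maximalIdeal T := by
      rw [← hρ]
      ext t
      show l₀ (iT t) = 0 ↔ ρ t = 0
      rw [← AlgHom.comp_apply, hl₀T, AlgHom.comp_apply, map_eq_zero]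
    set p := P.comap (algebraMap T U)
    haveI : P₀.LiesOver (IsLocalRing.maximalIdeal T) := ⟨hP₀.symm⟩
    obtain ⟨Q, hQle, hQprime, hQover⟩ := Ideal.exists_ideal_le_liesOver_of_le (R := T) (S := U) P₀
      (IsLocalRing.le_maximalIdeal (Ideal.IsPrime.ne_top' (I := p)))
    haveI := hQprime
    let lQ := IsScalarTower.toAlgHom R U Q.ResidueField
    -- the class is constant along the generisation
    have hQ : push (lQ.comp iT) y = push (lQ.comp iS) (E'.e f₀) := by
      obtain ⟨EQ, hEQ⟩ := exists_split_push EU' lQ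
      obtain ⟨r, hr⟩ := EQ.exists_eq ((hy.push iT).push lQ)
      suffices hrf : r = (f₀ : M ⧸ (nsmulAddMonoidHom n : M →+ M).range) by
        rw [push_comp', hr, hrf, hEQ, hEU', ← push_comp']
      obtain ⟨E₀', hE₀'⟩ := exists_split_push EU' l₀
      have h1 : l₀ (d (f₀ : M ⧸ (nsmulAddMonoidHom n : M →+ M).range)) = 1 := by
        rw [← repr_push EU' E₀' l₀ hE₀', ← push_comp', hcl₀, push_comp', ← hEU', ← hE₀', Module.Basis.repr_self,
          Finsupp.single_eq_same]
      have h2 : lQ (d (f₀ : M ⧸ (nsmulAddMonoidHom n : M →+ M).range)) ≠ 0 := fun h0 => by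
        have hmem : d _ ∈ RingHom.ker lQ := h0
        rw [exists_point Q] at hmem
        have h3 : l₀ (d _) = 0 := hQle hmem
        rw [h1] at h3
        exact one_ne_zero h3
      by_contra hne
      refine h2 ?_
      rw [← repr_push EU' EQ lQ hEQ, hr, Module.Basis.repr_self, Finsupp.single_eq_of_ne (Ne.symm hne)]
    have hcomap : p = Q.comap (algebraMap T U) := hQover.over
    let lP := IsScalarTower.toAlgHom R U P.ResidueField
    let aP : p.ResidueField →ₐ[R] P.ResidueField := Ideal.ResidueField.mapₐ p P (IsScalarTower.toAlgHom R T U) rfl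
    let aQ : p.ResidueField →ₐ[R] Q.ResidueField :=
      Ideal.ResidueField.mapₐ p Q (IsScalarTower.toAlgHom R T U) hcomap
    obtain ⟨K, _, _, j₁, j₂, hj⟩ := exists_join aP aQ
    have hT : (j₁.comp lP).comp iT = (j₂.comp lQ).comp iT := AlgHom.ext fun t => by
      have := DFunLike.congr_fun hj (algebraMap T p.ResidueField t)
      simp only [AlgHom.comp_apply] at this ⊢
      simp only [aP, aQ, lP, lQ] at this ⊢
      rw [Ideal.ResidueField.mapₐ_apply, Ideal.ResidueField.mapₐ_apply, Ideal.ResidueField.map_algebraMap, Ideal.ResidueField.map_algebraMap] at this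
      exact this
    obtain ⟨f, hfmem, hf⟩ := trans' ((j₁.comp lP).comp iS) ((j₂.comp lQ).comp iS) f₀
    refine ⟨f, Finset.mem_biUnion.2 ⟨f₀, hf₀mem, hfmem⟩, ?_⟩
    have hj₁ : Function.Injective (push (A := A ⧸ (SGA3b.torsionIdeal R A n)) j₁) := by
      obtain ⟨EP, hEP⟩ := exists_split_push EU' lP
      obtain ⟨EK, hEK⟩ := exists_split_push EP j₁
      intro u v huv
      refine EP.e.ext_elem fun c => j₁.toRingHom.injective ?_
      show j₁ _ = j₁ _
      rw [← repr_push EP EK j₁ hEK, ← repr_push EP EK j₁ hEK, huv]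
    refine hj₁ ?_
    rw [← push_comp', ← push_comp', ← AlgHom.comp_assoc, ← AlgHom.comp_assoc, hT, AlgHom.comp_assoc, push_comp', hQ,
      ← push_comp', ← AlgHom.comp_assoc, hE', hE', ← hq, hf, hq]
  -- the lift over `U`
  let c : F → U := fun f => d ((f : M) : M ⧸ (nsmulAddMonoidHom n : M →+ M).range)
  have hc : CompleteOrthogonalIdempotents c := by
    refine ⟨⟨fun f => ?_, fun f g hfg => ?_⟩, ?_⟩
    · have := EU'.repr_idem (hy.push iT) ((f : M) : M ⧸ (nsmulAddMonoidHom n : M →+ M).range) ((f : M) : _)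
      rwa [if_pos rfl] at this
    · have := EU'.repr_idem (hy.push iT) ((f : M) : M ⧸ (nsmulAddMonoidHom n : M →+ M).range) ((g : M) : _)
      rwa [if_neg fun h => hfg (Subtype.ext (hsep _ (Finset.mem_union_left _ f.2) _ (Finset.mem_union_left _ g.2) h))]
        at this
    · have hi : IsIdempotentElem (∑ f, c f) := by
        refine OrthogonalIdempotents.isIdempotentElem_sum ⟨fun f => ?_, fun f g hfg => ?_⟩
        · have := EU'.repr_idem (hy.push iT) ((f : M) : M ⧸ (nsmulAddMonoidHom n : M →+ M).range) ((f : M) : _)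
          rwa [if_pos rfl] at this
        · have := EU'.repr_idem (hy.push iT) ((f : M) : M ⧸ (nsmulAddMonoidHom n : M →+ M).range) ((g : M) : _)
          rwa [if_neg fun h => hfg (Subtype.ext (hsep _ (Finset.mem_union_left _ f.2) _ (Finset.mem_union_left _ g.2) h))]
            at this
      by_contra hne
      obtain ⟨P, hP, hle⟩ := Ideal.exists_le_maximal (Ideal.span {∑ f, c f}) (fun h => hne (by
        rw [Ideal.span_singleton_eq_top] at h
        exact h.mul_left_cancel (by rw [hi.eq, mul_one])))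
      haveI := hP.isPrime
      obtain ⟨f, hf, hfe⟩ := hclass P
      let lP := IsScalarTower.toAlgHom R U P.ResidueField
      obtain ⟨EP, hEP⟩ := exists_split_push EU' lP
      have h1 : ∀ g : F, lP (c g) = if g = ⟨f, hf⟩ then 1 else 0 := fun g => by
        rw [← repr_push EU' EP lP hEP, ← push_comp', hfe, push_comp', ← hEU', ← hEP, Module.Basis.repr_self,
          Finsupp.single_apply]
        refine if_congr ⟨fun h => Subtype.ext (hsep _ (Finset.mem_union_left _ g.2) _ (Finset.mem_union_left _ hf) h.symm),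
          fun h => by rw [h]⟩ rfl rfl
      have h0 : lP (∑ f, c f) = 0 := by
        have hmem : ∑ f, c f ∈ RingHom.ker lP := by
          rw [exists_point P]; exact hle (Ideal.subset_span rfl)
        exact hmem
      rw [map_sum] at h0
      simp only [h1, Finset.sum_ite_eq', Finset.mem_univ, if_true] at h0
      exact one_ne_zero h0
  let x' : U ⊗[R] A := ∑ f, c f • EU.e f
  have hx' : IsGL R A U x' := isGL_sum hc fun f => EU.gl f
  -- value of the lift at a point
  have hval : ∀ {K : Type u} [Field K] [Algebra R K] (j : U →ₐ[R] K) (f : M), f ∈ F →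
      push (j.comp iT) y = push (j.comp iS) (E'.e f) → push j x' = push (j.comp iS) (E.e f) := by
    intro K _ _ j f hf hfe
    obtain ⟨EP, hEP⟩ := exists_split_push EU' j
    have h1 : ∀ g : F, j (c g) = if g = ⟨f, hf⟩ then 1 else 0 := fun g => by
      rw [← repr_push EU' EP j hEP, ← push_comp', hfe, push_comp', ← hEU', ← hEP, Module.Basis.repr_self,
        Finsupp.single_apply]
      refine if_congr ⟨fun h => Subtype.ext (hsep _ (Finset.mem_union_left _ g.2) _ (Finset.mem_union_left _ hf) h.symm),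
        fun h => by rw [h]⟩ rfl rfl
    simp only [x', map_sum, push_smul, h1, ite_smul, one_smul, zero_smul, Finset.sum_ite_eq', Finset.mem_univ,
      if_true]
    rw [push_comp', ← hEU]
  -- descent
  let σ : U ⊗[R] A →ₐ[R] S ⊗[R] (T ⊗[R] A) :=
    (Algebra.TensorProduct.assoc R R R S T A).toAlgHom.comp
      (Algebra.TensorProduct.map (Algebra.TensorProduct.comm R T S).toAlgHom (AlgHom.id R A))
  let W := T ⊗[R] (S ⊗[R] S)
  let k₁ : U →ₐ[R] W := Algebra.TensorProduct.map (AlgHom.id R T) i₁
  let k₂ : U →ₐ[R] W := Algebra.TensorProduct.map (AlgHom.id R T) i₂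
  obtain ⟨EW, hEW⟩ := exists_split_push EU k₁
  have hkk : push k₁ x' = push k₂ x' := by
    refine gl_eq_of_points EW (hx'.push k₁) (hx'.push k₂) fun P hP => ?_
    let j := IsScalarTower.toAlgHom R W P.ResidueField
    refine ⟨P.ResidueField, inferInstance, inferInstance, j, exists_point P, ?_⟩
    have hk : ∀ (k : U →ₐ[R] W), ∃ f ∈ F, push ((j.comp k).comp iT) y = push ((j.comp k).comp iS) (E'.e f) := by
      intro k
      let P' := RingHom.ker (j.comp k)
      haveI : P'.IsPrime := RingHom.ker_isPrime _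
      obtain ⟨f, hf, hfe⟩ := hclass P'
      refine ⟨f, hf, ?_⟩
      let φ : P'.ResidueField →ₐ[R] P.ResidueField := Ideal.ResidueField.liftₐ P' (j.comp k) le_rfl (fun z hz => isUnit_iff_ne_zero.2 hz)
      have hφ : φ.comp (IsScalarTower.toAlgHom R U P'.ResidueField) = j.comp k := AlgHom.ext fun z => by simp [φ]
      rw [← hφ, AlgHom.comp_assoc, AlgHom.comp_assoc, push_comp', hfe, ← push_comp']
    obtain ⟨f, hf, hfe⟩ := hk k₁
    obtain ⟨f', hf', hfe'⟩ := hk k₂
    rw [← push_comp', ← push_comp', hval (j.comp k₁) f hf hfe, hval (j.comp k₂) f' hf' hfe']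
    obtain ⟨g, hg, hge⟩ := trans' ((j.comp k₁).comp iS) ((j.comp k₂).comp iS) f'
    have hTT : (j.comp k₁).comp iT = (j.comp k₂).comp iT := AlgHom.ext fun t => by
      simp [k₁, k₂, iT, U, W, Algebra.TensorProduct.includeLeft_apply, Algebra.TensorProduct.includeRight_apply, Algebra.TensorProduct.map_tmul, Algebra.TensorProduct.lift_tmul]
    have hgf : (g : M ⧸ (nsmulAddMonoidHom n : M →+ M).range) = f := uniq ((j.comp k₁).comp iS) _ _ (by
      rw [hE', ← hq, ← hge, hq, ← hE', ← hfe', ← hTT, hfe])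
    rw [hge, hsep g (Finset.mem_union_right _ (Finset.mem_biUnion.2 ⟨f', hf', hg⟩)) f (Finset.mem_union_left _ hf) hgf]
  have hface : ∀ (i : S →ₐ[R] S ⊗[R] S) (z : U ⊗[R] A),
      Algebra.TensorProduct.map i (AlgHom.id R (T ⊗[R] A)) (σ z) =
        (Algebra.TensorProduct.assoc R R R (S ⊗[R] S) T A).toAlgHom.comp
          (Algebra.TensorProduct.map (Algebra.TensorProduct.comm R T (S ⊗[R] S)).toAlgHom (AlgHom.id R A))
          (push (Algebra.TensorProduct.map (AlgHom.id R T) i) z) := by
    intro i z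
    induction z using TensorProduct.induction_on with
    | zero => simp
    | add a b ha hb => simp only [map_add, ha, hb]
    | tmul u a =>
      induction u using TensorProduct.induction_on with
      | zero => simp
      | add b b' hb hb' => simp only [TensorProduct.add_tmul, map_add, hb, hb']
      | tmul t s => rfl
  obtain ⟨x, hx⟩ := exists_of_coface_eq (R := R) (S := S) (A := T ⊗[R] A) (z := σ x')
    ((hface i₁ x').trans ((congrArg _ hkk).trans (hface i₂ x').symm))
  have hσ : Function.Injective σ :=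
    (Algebra.TensorProduct.assoc R R R S T A).injective.comp
      (Algebra.TensorProduct.congr (Algebra.TensorProduct.comm R T S) (AlgEquiv.refl : A ≃ₐ[R] A)).injective
  have hxx : push iT x = x' := hσ (by
    rw [← hx]
    clear hx
    induction x using TensorProduct.induction_on with
    | zero => simp
    | add a b ha hb => simp only [map_add, TensorProduct.tmul_add, ha, hb]
    | tmul t a => rfl)
  have hinj : Function.Injective iT := by
    intro a b hab
    refine Module.FaithfullyFlat.tensorProduct_mk_injective (A := R) (B := S) T ?_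
    have h : (TensorProduct.comm R T S) (a ⊗ₜ[R] (1 : S)) = (TensorProduct.comm R T S) (b ⊗ₜ[R] (1 : S)) :=
      congrArg (TensorProduct.comm R T S) hab
    simpa using h
  refine ⟨x, IsGL.of_push iT hinj (hxx ▸ hx'), ?_⟩
  have hj : Function.Injective (push (A := A) (π₀.comp jL)) :=
    Module.Flat.rTensor_preserves_injective_linearMap (M := A) (π₀.comp jL).toLinearMap
      (π₀.comp jL).toRingHom.injective
  refine hj ?_
  have hf₀F : f₀ ∈ F := Finset.mem_biUnion.2 ⟨f₀, hf₀mem, by
    obtain ⟨g, hg, hge⟩ := trans' (π₀.comp jS) (π₀.comp jS) f₀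
    obtain ⟨EK, hEK⟩ := exists_split_push E (π₀.comp jS)
    rwa [← EK.e.injective (show EK.e f₀ = EK.e g by rw [hEK, hEK, hge])] at hg⟩
  rw [← push_comp', ← hl₀T, push_comp', hxx, hval l₀ f₀ hf₀F hcl₀, hl₀S, hf₀e]

end Groth.Agent.QIso
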