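import Mathlib.RingTheory.Etale.StandardEtale
import Mathlib.RingTheory.Polynomial.ScaleRoots
import Mathlib.FieldTheory.PrimitiveElement
import Mathlib.RingTheory.LocalRing.ResidueField.Ideal

set_option autoImplicit false

/-!
Étale algebras with a prescribed finite separable residue extension.
-/

noncomputable section

universe u

open Polynomial

namespace Groth.Agent.QIso

variable {R : Type u} [CommRing R]

/-- Every finite separable extension of a residue field receives an étale algebra. -/
theorem exists_etale_point (p : Ideal R) [p.IsPrime] (L : Type u) [Field L] [Algebra p.ResidueField L]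
    [Module.Finite p.ResidueField L] [Algebra.IsSeparable p.ResidueField L] [Algebra R L]
    [IsScalarTower R p.ResidueField L] :
    ∃ (T : Type u) (_ : CommRing T) (_ : Algebra R T), Algebra.Etale R T ∧ Nonempty (T →ₐ[R] L) := by
  classical
  let k := p.ResidueField
  obtain ⟨α, -⟩ := Field.exists_primitive_element k L
  have hint : IsIntegral k α := .of_finite _ _
  have hfrac : ∀ c : k, ∃ a b : R, algebraMap R k b ≠ 0 ∧ algebraMap R k b * c = algebraMap R k a := by
    intro c
    obtain ⟨a, b, hb, rfl⟩ := IsFractionRing.div_surjective (R ⧸ p) c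
    obtain ⟨a, rfl⟩ := Ideal.Quotient.mk_surjective a
    obtain ⟨b, rfl⟩ := Ideal.Quotient.mk_surjective b
    have hb' : algebraMap (R ⧸ p) k (Ideal.Quotient.mk p b) ≠ 0 := by
      simpa using nonZeroDivisors.ne_zero hb
    exact ⟨a, b, hb', mul_div_cancel₀ _ hb'⟩
  choose a b hb hab using fun i => hfrac ((minpoly k α).coeff i)
  let n := (minpoly k α).natDegree
  let d := ∏ i ∈ Finset.range n, b i
  have hd : algebraMap R k d ≠ 0 := by
    simp only [d, map_prod]
    exact Finset.prod_ne_zero_iff.mpr fun i _ => hb i
  let f := (minpoly k α).scaleRoots (algebraMap R k d)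
  let β : L := algebraMap k L (algebraMap R k d) * α
  have hfmon : f.Monic := (monic_scaleRoots_iff _).mpr (minpoly.monic hint)
  have hroot : aeval β f = 0 := scaleRoots_aeval_eq_zero (minpoly.aeval _ _)
  have hfsep : f.Separable := by
    refine (Algebra.IsSeparable.isSeparable k β).of_dvd ?_
    have hβint : IsIntegral k β := .of_finite _ _
    have hdeg : (minpoly k β).natDegree = f.natDegree := by
      rw [natDegree_scaleRoots]
      have e1 : IntermediateField.adjoin k {β} = IntermediateField.adjoin k {α} := by
        refine le_antisymm (IntermediateField.adjoin_simple_le_iff.2 ?_) (IntermediateField.adjoin_simple_le_iff.2 ?_)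
        · exact mul_mem (IntermediateField.algebraMap_mem _ _) (IntermediateField.mem_adjoin_simple_self _ _)
        · have : α = (algebraMap k L (algebraMap R k d))⁻¹ * β := by
            simp only [β]
            rw [inv_mul_cancel_left₀ ((_root_.map_ne_zero _).mpr hd)]
          rw [this]
          exact mul_mem (inv_mem (IntermediateField.algebraMap_mem _ _)) (IntermediateField.mem_adjoin_simple_self _ _)
      rw [← IntermediateField.adjoin.finrank hβint, ← IntermediateField.adjoin.finrank hint, e1]
    rw [eq_of_monic_of_dvd_of_natDegree_le (minpoly.monic hβint) hfmon (minpoly.dvd _ _ hroot) hdeg.ge]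
  have hlift : f ∈ Polynomial.lifts (algebraMap R k) := by
    rw [Polynomial.lifts_iff_coeff_lifts]
    intro i
    rw [Polynomial.coeff_scaleRoots]
    rcases lt_trichotomy i n with hi | hi | hi
    · obtain ⟨r, hr⟩ := Finset.dvd_prod_of_mem b (Finset.mem_range.mpr hi)
      obtain ⟨j, hj⟩ := Nat.exists_eq_add_of_lt hi
      refine ⟨a i * r * d ^ j, ?_⟩
      rw [show (minpoly k α).natDegree - i = j + 1 by change n - i = j + 1; omega]
      have hd' : algebraMap R k d = algebraMap R k (b i) * algebraMap R k r := by
        rw [← map_mul]; exact congr_arg _ hr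
      simp only [map_mul, map_pow, pow_succ, hd', ← hab i]
      ring
    · refine ⟨1, ?_⟩
      rw [map_one, hi, show n = (minpoly k α).natDegree from rfl, coeff_natDegree,
        (minpoly.monic hint).leadingCoeff, Nat.sub_self, pow_zero, one_mul]
    · exact ⟨0, by rw [map_zero, coeff_eq_zero_of_natDegree_lt hi, zero_mul]⟩
  obtain ⟨m, hm, -, hmmon⟩ := Polynomial.lifts_and_natDegree_eq_and_monic hlift hfmon
  let P : StandardEtalePair R := ⟨m, hmmon, Polynomial.derivative m, 1, 0, 1, by simp⟩
  have hev : ∀ q : R[X], aeval β q = aeval β (q.map (algebraMap R k)) := fun q => by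
    rw [Polynomial.aeval_map_algebraMap]
  have hP : P.HasMap β := by
    refine ⟨by rw [hev]; change aeval β (m.map (algebraMap R k)) = 0; rw [hm, hroot], ?_⟩
    rw [isUnit_iff_ne_zero, hev]
    change aeval β ((derivative m).map (algebraMap R k)) ≠ 0
    rw [← derivative_map, hm]
    exact hfsep.aeval_derivative_ne_zero hroot
  exact ⟨P.Ring, inferInstance, inferInstance, inferInstance, ⟨P.lift β hP⟩⟩

end Groth.Agent.QIso
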