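import Groth.Agent.QIsoLib.Lift
import Groth.Agent.QIsoLib.Field
import Mathlib.RingTheory.Localization.BaseChange
import Mathlib.RingTheory.Localization.AtPrime.Basic
import Mathlib.RingTheory.Localization.Away.Basic

set_option autoImplicit false

/-!
Pointed étale algebras and spreading out from their local rings.
-/

noncomputable section

universe u

open scoped TensorProduct
open Groth.Agent.TorusField Groth.Agent.DiagHopf

namespace Groth.Agent.QIso

variable (R : Type u) [CommRing R] (L : Type u) [Field L] [Algebra R L]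

/-- An étale algebra with a chosen point in `L`. -/
structure Nbhd where
  T : Type u
  [commRing : CommRing T]
  [algebra : Algebra R T]
  [etale : Algebra.Etale R T]
  χ : T →ₐ[R] L

attribute [instance] Nbhd.commRing Nbhd.algebra Nbhd.etale

variable {R L}

/-- A morphism of pointed étale algebras. -/
structure Nbhd.Hom (N N' : Nbhd R L) where
  ι : N.T →ₐ[R] N'.T
  comp_χ : N'.χ.comp ι = N.χ

/-- The identity morphism. -/
def Nbhd.Hom.id (N : Nbhd R L) : N.Hom N := ⟨AlgHom.id R _, AlgHom.comp_id _⟩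

/-- Composition of morphisms. -/
def Nbhd.Hom.comp {N N' N'' : Nbhd R L} (f : N'.Hom N'') (g : N.Hom N') : N.Hom N'' :=
  ⟨f.ι.comp g.ι, by rw [← AlgHom.comp_assoc, f.comp_χ, g.comp_χ]⟩

variable (N : Nbhd R L)

/-- The chosen prime. -/
def Nbhd.q : Ideal N.T := RingHom.ker N.χ

instance : N.q.IsPrime := RingHom.ker_isPrime _

/-- The local ring at the chosen prime. -/
abbrev Nbhd.Loc : Type u := Localization.AtPrime N.q

/-- The map to the local ring. -/
def Nbhd.toLoc : N.T →ₐ[R] N.Loc := IsScalarTower.toAlgHom R N.T N.Loc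

theorem Nbhd.isUnit_χ (s : N.q.primeCompl) : IsUnit (N.χ s) :=
  isUnit_iff_ne_zero.2 fun h => s.2 h

/-- The point of the local ring. -/
def Nbhd.ρ : N.Loc →ₐ[R] L :=
  IsLocalization.liftAlgHom (M := N.q.primeCompl) (f := N.χ) N.isUnit_χ

theorem Nbhd.ρ_toLoc : N.ρ.comp N.toLoc = N.χ :=
  AlgHom.ext fun x => IsLocalization.lift_eq (S := N.Loc) N.isUnit_χ x

theorem Nbhd.ker_ρ : RingHom.ker N.ρ = IsLocalRing.maximalIdeal N.Loc := by
  refine le_antisymm (IsLocalRing.le_maximalIdeal (RingHom.ker_ne_top _)) ?_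
  rw [← Localization.AtPrime.map_eq_maximalIdeal, Ideal.map_le_iff_le_comap]
  intro x hx
  show N.ρ (N.toLoc x) = 0
  rw [← AlgHom.comp_apply, N.ρ_toLoc]
  exact hx

theorem Nbhd.Hom.exists_loc {N N' : Nbhd R L} (f : N.Hom N') :
    ∃ θ : N.Loc →ₐ[R] N'.Loc, θ.comp N.toLoc = N'.toLoc.comp f.ι ∧ N'.ρ.comp θ = N.ρ := by
  have h : ∀ s : N.q.primeCompl, IsUnit ((N'.toLoc.comp f.ι) s) := fun s =>
    IsLocalization.map_units N'.Loc (⟨f.ι s, fun h => s.2 (by
      show N.χ s = 0
      rw [← f.comp_χ]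
      exact h)⟩ : N'.q.primeCompl)
  refine ⟨IsLocalization.liftAlgHom (M := N.q.primeCompl) (f := N'.toLoc.comp f.ι) h,
    AlgHom.ext fun x => IsLocalization.lift_eq (S := N.Loc) h x, ?_⟩
  refine AlgHom.coe_ringHom_injective (IsLocalization.ringHom_ext N.q.primeCompl (RingHom.ext fun x => ?_))
  show N'.ρ (IsLocalization.liftAlgHom (M := N.q.primeCompl) (f := N'.toLoc.comp f.ι) h (N.toLoc x)) =
    N.ρ (N.toLoc x)
  rw [show IsLocalization.liftAlgHom (M := N.q.primeCompl) (f := N'.toLoc.comp f.ι) h (N.toLoc x) =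
    N'.toLoc (f.ι x) from IsLocalization.lift_eq (S := N.Loc) h x]
  rw [← AlgHom.comp_apply, N'.ρ_toLoc, ← AlgHom.comp_apply, f.comp_χ]
  exact (DFunLike.congr_fun N.ρ_toLoc x).symm

/-- Inverting an element outside the chosen prime. -/
theorem Nbhd.exists_away {g : N.T} (hg : g ∉ N.q) : ∃ (N' : Nbhd R L) (f : N.Hom N'), IsUnit (f.ι g) := by
  haveI : Algebra.Etale N.T (Localization.Away g) := Algebra.Etale.of_isLocalizationAway g
  haveI : Algebra.Etale R (Localization.Away g) := Algebra.Etale.comp R N.T _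
  have h : ∀ s : Submonoid.powers g, IsUnit (N.χ s) := by
    rintro ⟨_, k, rfl⟩
    rw [map_pow]
    exact (isUnit_iff_ne_zero.2 hg).pow k
  refine ⟨⟨Localization.Away g, IsLocalization.liftAlgHom (M := Submonoid.powers g) (f := N.χ) h⟩,
    ⟨IsScalarTower.toAlgHom R N.T (Localization.Away g),
      AlgHom.ext fun x => IsLocalization.lift_eq (S := Localization.Away g) h x⟩, ?_⟩
  exact IsLocalization.Away.algebraMap_isUnit g

theorem isLocalizedModule_map {T : Type u} [CommRing T] [Algebra R T] (P : Submonoid T) (T' : Type u) [CommRing T']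
    [Algebra R T'] [Algebra T T'] [IsScalarTower R T T'] [IsLocalization P T'] (V : Type u) [AddCommGroup V]
    [Module R V] :
    IsLocalizedModule P
      (TensorProduct.AlgebraTensorModule.map (Algebra.linearMap T T') (LinearMap.id : V →ₗ[R] V)) := by
  rw [isLocalizedModule_iff_isBaseChange P T']
  refine IsBaseChange.of_equiv (TensorProduct.AlgebraTensorModule.cancelBaseChange R T T' T' V) fun x => ?_
  induction x using TensorProduct.induction_on with
  | zero => simp
  | add a b ha hb => simp only [TensorProduct.tmul_add, map_add, ha, hb]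
  | tmul t v => simp [Algebra.smul_def]

theorem map_smul_push {T T' : Type u} [CommRing T] [CommRing T'] [Algebra R T] [Algebra R T'] {V : Type u}
    [CommRing V] [Algebra R V] (f : T →ₐ[R] T') (s : T) (x : T ⊗[R] V) :
    Algebra.TensorProduct.map f (AlgHom.id R V) (s • x) = f s • Algebra.TensorProduct.map f (AlgHom.id R V) x := by
  rw [Algebra.smul_def, Algebra.smul_def, map_mul]
  congr 1

/-- Equalities in the local ring hold on a neighbourhood. -/
theorem Nbhd.exists_eq {V : Type u} [CommRing V] [Algebra R V] {z z' : N.T ⊗[R] V}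
    (h : Algebra.TensorProduct.map N.toLoc (AlgHom.id R V) z = Algebra.TensorProduct.map N.toLoc (AlgHom.id R V) z') :
    ∃ (N' : Nbhd R L) (f : N.Hom N'),
      Algebra.TensorProduct.map f.ι (AlgHom.id R V) z = Algebra.TensorProduct.map f.ι (AlgHom.id R V) z' := by
  haveI := isLocalizedModule_map (R := R) N.q.primeCompl N.Loc V
  obtain ⟨s, hs⟩ := IsLocalizedModule.exists_of_eq (S := N.q.primeCompl)
    (f := TensorProduct.AlgebraTensorModule.map (Algebra.linearMap N.T N.Loc) (LinearMap.id : V →ₗ[R] V)) h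
  obtain ⟨N', f, hu⟩ := N.exists_away s.2
  refine ⟨N', f, hu.smul_left_cancel.1 ?_⟩
  rw [← map_smul_push, ← map_smul_push]
  exact congrArg _ hs

theorem Nbhd.exists_eq' {a b : N.T} (h : N.toLoc a = N.toLoc b) :
    ∃ (N' : Nbhd R L) (f : N.Hom N'), f.ι a = f.ι b := by
  obtain ⟨s, hs⟩ := (IsLocalization.eq_iff_exists N.q.primeCompl N.Loc).1 h
  obtain ⟨N', f, hu⟩ := N.exists_away s.2
  exact ⟨N', f, hu.mul_left_cancel (by rw [← map_mul, ← map_mul, hs])⟩

/-- Elements over the local ring come from a neighbourhood. -/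
theorem Nbhd.exists_pre {V : Type u} [CommRing V] [Algebra R V] (z : N.Loc ⊗[R] V) :
    ∃ (N' : Nbhd R L) (f : N.Hom N') (z' : N'.T ⊗[R] V), ∀ θ : N.Loc →ₐ[R] N'.Loc,
      θ.comp N.toLoc = N'.toLoc.comp f.ι →
      Algebra.TensorProduct.map N'.toLoc (AlgHom.id R V) z' = Algebra.TensorProduct.map θ (AlgHom.id R V) z := by
  haveI := isLocalizedModule_map (R := R) N.q.primeCompl N.Loc V
  obtain ⟨⟨v, s⟩, hs⟩ := IsLocalizedModule.surj N.q.primeCompl
    (TensorProduct.AlgebraTensorModule.map (Algebra.linearMap N.T N.Loc) (LinearMap.id : V →ₗ[R] V)) z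
  obtain ⟨N', f, hu⟩ := N.exists_away s.2
  refine ⟨N', f, (↑hu.unit⁻¹ : N'.T) • Algebra.TensorProduct.map f.ι (AlgHom.id R V) v, fun θ hθ => ?_⟩
  have hs' : N.toLoc s • z = Algebra.TensorProduct.map N.toLoc (AlgHom.id R V) v := by
    refine Eq.trans ?_ hs
    exact algebraMap_smul N.Loc (s : N.T) z
  refine ((hu.map N'.toLoc).smul_left_cancel).1 ?_
  rw [map_smul_push, ← mul_smul, ← map_mul, IsUnit.mul_val_inv, map_one, one_smul, ← AlgHom.comp_apply N'.toLoc,
    ← hθ, AlgHom.comp_apply, ← map_smul_push, hs']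
  have e : ∀ w, Algebra.TensorProduct.map N'.toLoc (AlgHom.id R V) (Algebra.TensorProduct.map f.ι (AlgHom.id R V) w) =
      Algebra.TensorProduct.map θ (AlgHom.id R V) (Algebra.TensorProduct.map N.toLoc (AlgHom.id R V) w) := by
    intro w
    induction w using TensorProduct.induction_on with
    | zero => simp
    | add a b ha hb => simp only [map_add, ha, hb]
    | tmul t a =>
      simp only [Algebra.TensorProduct.map_tmul, AlgHom.id_apply]
      rw [← AlgHom.comp_apply N'.toLoc, ← hθ, AlgHom.comp_apply]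
  exact e v

variable {A : Type u} [CommRing A] [Bialgebra R A]

/-- Group-like elements over the local ring spread out. -/
theorem Nbhd.exists_spread_gl {z : N.Loc ⊗[R] A} (hz : IsGL R A N.Loc z) :
    ∃ (N' : Nbhd R L) (f : N.Hom N') (x : N'.T ⊗[R] A), IsGL R A N'.T x ∧ push N'.χ x = push N.ρ z := by
  obtain ⟨N₁, f₁, x₁, hx₁⟩ := N.exists_pre z
  obtain ⟨θ, hθ, hθρ⟩ := f₁.exists_loc
  have hx₁' : push N₁.toLoc x₁ = push θ z := hx₁ θ hθ
  have hgl := hz.push θ
  rw [← hx₁'] at hgl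
  obtain ⟨N₂, f₂, h₂⟩ := N₁.exists_eq (V := A ⊗[R] A) (z := D R A N₁.T x₁)
    (z' := J₁ R A N₁.T x₁ * J₂ R A N₁.T x₁) (by
      show push₂ N₁.toLoc _ = push₂ N₁.toLoc _
      rw [map_mul, push_D, push_J₁, push_J₂]
      exact hgl.1)
  obtain ⟨θ₂, hθ₂, -⟩ := f₂.exists_loc
  have e2 : N₂.toLoc (f₂.ι (ev1 R A N₁.T x₁)) = N₂.toLoc 1 := by
    rw [← AlgHom.comp_apply, ← hθ₂, AlgHom.comp_apply, push_ev1, hgl.2, map_one, map_one]
  obtain ⟨N₃, f₃, h₃⟩ := N₂.exists_eq' e2
  refine ⟨N₃, f₃.comp (f₂.comp f₁), push f₃.ι (push f₂.ι x₁), ?_, ?_⟩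
  · have h2' : D R A N₂.T (push f₂.ι x₁) = J₁ R A N₂.T (push f₂.ι x₁) * J₂ R A N₂.T (push f₂.ι x₁) := by
      rw [← push_D, ← push_J₁, ← push_J₂, ← map_mul]
      exact h₂
    refine ⟨?_, ?_⟩
    · rw [← push_D, h2', map_mul, push_J₁, push_J₂]
    · rw [← push_ev1, ← push_ev1, h₃, map_one]
  · rw [← push_comp', ← push_comp', f₃.comp_χ, f₂.comp_χ, ← N₁.ρ_toLoc, push_comp', hx₁', ← push_comp', hθρ]

end Groth.Agent.QIso
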