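import Groth.Agent.QIsoLib.Nbhd

set_option autoImplicit false

/-!
Group-like units, and the behaviour of splittings at points.
-/

noncomputable section

universe u

open scoped TensorProduct
open Groth.Agent.TorusField Groth.Agent.DiagHopf

namespace Groth.Agent.QIso

variable {R : Type u} [CommRing R] {A : Type u} [CommRing A] [HopfAlgebra R A]
  {T : Type u} [CommRing T] [Algebra R T]

theorem isUnit_of_isGL {x : T ⊗[R] A} (hx : IsGL R A T x) : IsUnit x := by
  let Ψ : T ⊗[R] (A ⊗[R] A) →ₐ[T] T ⊗[R] A := Algebra.TensorProduct.map (AlgHom.id T T)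
    (Algebra.TensorProduct.lift (AlgHom.id R A) (HopfAlgebra.antipodeAlgHom R A) fun _ _ => Commute.all _ _)
  have hΨ : Ψ.comp (D R A T) = (Algebra.ofId T _).comp (ev1 R A T) :=
    Algebra.TensorProduct.ext (Subsingleton.elim _ _) (AlgHom.ext fun a => by
      have h := HopfAlgebra.mul_antipode_lTensor_comul_apply (R := R) a
      simp only [AlgHom.comp_apply, AlgHom.coe_restrictScalars', Algebra.TensorProduct.includeRight_apply, D, Ψ,
        Algebra.TensorProduct.map_tmul, ev1, Algebra.TensorProduct.lift_tmul, map_one, one_mul,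
        Bialgebra.comulAlgHom_apply, Bialgebra.counitAlgHom_apply]
      have e : ∀ z : A ⊗[R] A, Algebra.TensorProduct.lift (AlgHom.id R A) (HopfAlgebra.antipodeAlgHom R A)
          (fun _ _ => Commute.all _ _) z = LinearMap.mul' R A ((HopfAlgebra.antipode R).lTensor A z) := by
        intro z
        induction z using TensorProduct.induction_on with
        | zero => simp
        | add p q hp hq => simp only [map_add, hp, hq]
        | tmul p q => simp
      rw [e, h]
      simp [Algebra.algebraMap_eq_smul_one, ← Algebra.TensorProduct.one_def])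
  have h := DFunLike.congr_fun hΨ x
  rw [AlgHom.comp_apply, AlgHom.comp_apply, hx.1, map_mul, hx.2, map_one] at h
  have e1 : Ψ (J₁ R A T x) = x :=
    DFunLike.congr_fun (show Ψ.comp (J₁ R A T) = AlgHom.id T _ from
      Algebra.TensorProduct.ext (Subsingleton.elim _ _) (AlgHom.ext fun a => by simp [Ψ, J₁])) x
  rw [e1] at h
  exact IsUnit.of_mul_eq_one _ h

variable (R A T) in
/-- The group of group-like units. -/
def glUnits : Subgroup (T ⊗[R] A)ˣ where
  carrier := {u | IsGL R A T (u : T ⊗[R] A)}
  mul_mem' := fun ha hb => ha.mul hb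
  one_mem' := ⟨by simp, by simp⟩
  inv_mem' := fun {u} hu => by
    refine ⟨?_, ?_⟩
    · apply (u.isUnit.map (D R A T)).mul_left_cancel
      rw [← map_mul, Units.mul_inv, map_one, hu.1, mul_mul_mul_comm, ← map_mul, ← map_mul, Units.mul_inv, map_one,
        map_one, mul_one]
    · have h : ev1 R A T (u * ↑u⁻¹) = 1 := by rw [Units.mul_inv, map_one]
      rwa [map_mul, hu.2, one_mul] at h

theorem mem_glUnits {u : (T ⊗[R] A)ˣ} : u ∈ glUnits R A T ↔ IsGL R A T (u : T ⊗[R] A) := Iff.rfl

/-- A group-like element as a member of the group of group-like units. -/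
def toGlUnits {x : T ⊗[R] A} (hx : IsGL R A T x) : glUnits R A T :=
  ⟨(isUnit_of_isGL hx).unit, show IsGL R A T ((isUnit_of_isGL hx).unit : T ⊗[R] A) by
    rw [IsUnit.unit_spec]; exact hx⟩

theorem coe_toGlUnits {x : T ⊗[R] A} (hx : IsGL R A T x) :
    (((toGlUnits hx : glUnits R A T) : (T ⊗[R] A)ˣ) : T ⊗[R] A) = x :=
  IsUnit.unit_spec _

/-- Two splittings over a field have isomorphic types. -/
theorem exists_reindex_field {K : Type u} [Field K] [Algebra R K] {M N : Type u} [AddCommGroup M] [AddCommGroup N]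
    (E : Split R A M K) (E' : Split R A N K) : ∃ φ : M ≃+ N, ∀ m, E.e m = E'.e (φ m) := by
  choose φ hφ using fun m => E'.exists_eq (E.gl m)
  choose ψ hψ using fun m => E.exists_eq (E'.gl m)
  refine ⟨⟨⟨φ, ψ, fun m => E.e.injective ?_, fun m => E'.e.injective ?_⟩, fun a b => E'.e.injective ?_⟩, hφ⟩
  · rw [← hψ, ← hφ]
  · rw [← hφ, ← hψ]
  · show E'.e (φ (a + b)) = E'.e (φ a + φ b)
    rw [E'.e_add, ← hφ, ← hφ, ← hφ, E.e_add]

end Groth.Agent.QIso
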